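import Groth.Prelude.Def_AnCl
import Mathlib.CategoryTheory.Sites.Point.Comap
import Mathlib.CategoryTheory.Sites.Point.Conservative
import Mathlib.CategoryTheory.Limits.FinallySmall
import Mathlib.Algebra.Category.Grp.FilteredColimits
import Mathlib.Algebra.Category.Grp.AB

/-!
# Points of the classical site

For a topological space `T` and `t : T`, the functor `E ↦ p⁻¹(t)` is a point of the classical
site `An.Cl T` (`ClPoint.point t`).  Two sections of a sheaf with the same germs at all points
are equal.
-/

universe u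

set_option autoImplicit false
open CategoryTheory CategoryTheory.Limits TopologicalSpace Topology Opposite

noncomputable section

namespace Groth.Agent.An.H885.ClPoint

variable {T : Type u} [TopologicalSpace T]

/-- Morphisms of the classical site are local homeomorphisms. -/
theorem isLocalHomeomorph_toFun {A B : An.Cl T} (f : A ⟶ B) : IsLocalHomeomorph f.toFun := by
  have h : B.p ∘ f.toFun = A.p := funext f.over
  exact IsLocalHomeomorph.of_comp (g := B.p) (by rw [h]; exact A.lh) B.lh f.continuous

/-- A sieve covers iff its members are jointly surjective. -/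
theorem mem_topology_iff {A : An.Cl T} (S : Sieve A) :
    S ∈ An.Cl.topology T A ↔ ∀ a : A.E, ∃ (B : An.Cl T) (g : B ⟶ A) (b : B.E),
      S g ∧ g.toFun b = a := by
  constructor
  · intro h a
    obtain ⟨B, g, hg, -, b, hb⟩ := h a
    exact ⟨B, g, b, hg, hb⟩
  · intro h a
    obtain ⟨B, g, b, hg, hb⟩ := h a
    obtain ⟨e, he, hge⟩ := isLocalHomeomorph_toFun g b
    have hopen : IsOpenEmbedding (g.toFun ∘ (Subtype.val : e.source → B.E)) := by
      rw [hge]
      exact e.isOpenEmbedding_restrict
    refine ⟨An.Cl.restrictOpen B e.source e.open_source,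
      An.Cl.restrictOpenι B e.source e.open_source ≫ g, S.downward_closed hg _, hopen,
      ⟨b, he⟩, hb⟩

/-- The fibre product of two morphisms of the classical site with the same target. -/
def fibProd {A B C : An.Cl T} (f : A ⟶ C) (g : B ⟶ C) : An.Cl T where
  E := {q : A.E × B.E // f.toFun q.1 = g.toFun q.2}
  p q := A.p q.1.1
  lh := by
    classical
    -- the first projection is a local homeomorphism
    refine A.lh.comp (g := A.p) (f := fun q : {q : A.E × B.E // f.toFun q.1 = g.toFun q.2} => q.1.1)
      ?_
    intro q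
    obtain ⟨e, he, hge'⟩ := isLocalHomeomorph_toFun g q.1.2
    have hge : ∀ b, g.toFun b = e b := fun b => congrFun hge' b
    clear hge'
    have hsrc : IsOpen {a : A.E | f.toFun a ∈ e.target} := e.open_target.preimage f.continuous
    refine ⟨{ toFun := fun q => q.1.1
              invFun := fun a => if h : f.toFun a ∈ e.target then
                ⟨(a, e.symm (f.toFun a)), by rw [hge]; exact (e.right_inv h).symm⟩ else q
              source := {q | q.1.2 ∈ e.source}
              target := {a | f.toFun a ∈ e.target}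
              map_source' := ?_
              map_target' := ?_
              left_inv' := ?_
              right_inv' := ?_
              open_source := e.open_source.preimage (continuous_snd.comp continuous_subtype_val)
              open_target := hsrc
              continuousOn_toFun := (continuous_fst.comp continuous_subtype_val).continuousOn
              continuousOn_invFun := ?_ }, he, rfl⟩
    · intro r hr
      change f.toFun r.1.1 ∈ e.target
      rw [r.2, hge]
      exact e.map_source hr
    · intro a ha
      have ha' : f.toFun a ∈ e.target := ha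
      simp only [ha', dite_true]
      exact e.map_target ha'
    · intro r hr
      have h1 : f.toFun r.1.1 ∈ e.target := by
        rw [r.2, hge]
        exact e.map_source hr
      simp only [h1, dite_true]
      apply Subtype.ext
      apply Prod.ext
      · rfl
      · change e.symm (f.toFun r.1.1) = r.1.2
        rw [r.2, hge]
        exact e.left_inv hr
    · intro a ha
      have ha' : f.toFun a ∈ e.target := ha
      simp only [ha', dite_true]
    · rw [continuousOn_iff_continuous_domRestrict]
      have : (Set.domRestrict {a : A.E | f.toFun a ∈ e.target} fun a =>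
          if h : f.toFun a ∈ e.target then
            (⟨(a, e.symm (f.toFun a)), by rw [hge]; exact (e.right_inv h).symm⟩ :
              {q : A.E × B.E // f.toFun q.1 = g.toFun q.2}) else q) =
          fun a : {a : A.E | f.toFun a ∈ e.target} =>
            ⟨(a.1, e.symm (f.toFun a.1)), by rw [hge]; exact (e.right_inv a.2).symm⟩ := by
        funext a
        have ha' : f.toFun a.1 ∈ e.target := a.2
        simp only [Set.domRestrict_apply, ha', dite_true]
      rw [this]
      refine Continuous.subtype_mk (continuous_subtype_val.prodMk ?_) _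
      exact e.continuousOn_symm.comp_continuous (f.continuous.comp continuous_subtype_val)
        (fun a => a.2)

/-- First projection. -/
def fibFst {A B C : An.Cl T} (f : A ⟶ C) (g : B ⟶ C) : fibProd f g ⟶ A :=
  ⟨fun q => q.1.1, continuous_fst.comp continuous_subtype_val, fun _ => rfl⟩

/-- Second projection. -/
def fibSnd {A B C : An.Cl T} (f : A ⟶ C) (g : B ⟶ C) : fibProd f g ⟶ B :=
  ⟨fun q => q.1.2, continuous_snd.comp continuous_subtype_val, fun q => by
    change B.p q.1.2 = A.p q.1.1
    rw [← g.over, ← f.over, q.2]⟩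

lemma fib_condition {A B C : An.Cl T} (f : A ⟶ C) (g : B ⟶ C) :
    fibFst f g ≫ f = fibSnd f g ≫ g :=
  An.Cl.hom_ext (funext fun q => q.2)

/-- The locus where two morphisms agree is open. -/
theorem isOpen_eqLocus {A B : An.Cl T} (f g : A ⟶ B) : IsOpen {a : A.E | f.toFun a = g.toFun a} := by
  rw [isOpen_iff_mem_nhds]
  intro a ha
  have ha' : f.toFun a = g.toFun a := ha
  obtain ⟨e, he, hpe⟩ := B.lh (f.toFun a)
  have h1 : ∀ᶠ x in 𝓝 a, f.toFun x ∈ e.source :=
    f.continuous.continuousAt.eventually (e.open_source.mem_nhds he)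
  have h2 : ∀ᶠ x in 𝓝 a, g.toFun x ∈ e.source :=
    g.continuous.continuousAt.eventually (e.open_source.mem_nhds (ha' ▸ he))
  filter_upwards [h1, h2] with x hx1 hx2
  refine e.injOn hx1 hx2 ?_
  rw [← hpe, f.over, g.over]

/-- The fibre functor at a point. -/
def fiber (t : T) : An.Cl T ⥤ Type u where
  obj E := {e : E.E // E.p e = t}
  map f := TypeCat.ofHom fun e => ⟨f.toFun e.1, (f.over e.1).trans e.2⟩
  map_id _ := rfl
  map_comp _ _ := rfl

@[simp] lemma fiber_map_val (t : T) {A B : An.Cl T} (f : A ⟶ B) (e : (fiber t).obj A) :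
    ((fiber t).map f e).1 = f.toFun e.1 := rfl

instance forget_preservesFiltered_small :
    PreservesFilteredColimitsOfSize.{u, u} (forget AddCommGrpCat.{u + 1}) :=
  preservesFilteredColimitsOfSize_shrink.{u, u + 1, u, u + 1} _

instance isCofiltered_elements (t : T) : IsCofiltered (fiber t).Elements where
  cone_objs := by
    rintro ⟨A, a⟩ ⟨B, b⟩
    let fA : A ⟶ An.Cl.self T := ⟨A.p, A.lh.continuous, fun _ => rfl⟩
    let fB : B ⟶ An.Cl.self T := ⟨B.p, B.lh.continuous, fun _ => rfl⟩
    exact ⟨⟨fibProd fA fB, ⟨⟨(a.1, b.1), a.2.trans b.2.symm⟩, a.2⟩⟩,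
      ⟨fibFst fA fB, rfl⟩, ⟨fibSnd fA fB, rfl⟩, trivial⟩
  cone_maps := by
    rintro ⟨A, a⟩ ⟨B, b⟩ ⟨f, hf⟩ ⟨g, hg⟩
    have hmem : a.1 ∈ {a : A.E | f.toFun a = g.toFun a} :=
      congrArg Subtype.val (hf.trans hg.symm)
    refine ⟨⟨An.Cl.restrictOpen A _ (isOpen_eqLocus f g), ⟨⟨a.1, hmem⟩, a.2⟩⟩,
      ⟨An.Cl.restrictOpenι A _ (isOpen_eqLocus f g), rfl⟩, ?_⟩
    apply Subtype.ext
    exact An.Cl.hom_ext (funext fun x => x.2)
  nonempty := ⟨⟨An.Cl.self T, ⟨t, rfl⟩⟩⟩

/-- Every object of the classical site with a point over `t` receives a morphism from a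
neighbourhood of `t`. -/
theorem exists_section {A : An.Cl T} (a : A.E) :
    ∃ (U : Opens T) (h : A.p a ∈ U) (g : (An.opensToCl T).obj U ⟶ A), g.toFun ⟨A.p a, h⟩ = a := by
  obtain ⟨e, ha, he⟩ := A.lh a
  let U : Opens T := ⟨e.target, e.open_target⟩
  have hcont : Continuous (fun u : e.target => e.symm u.1) :=
    (e.continuousOn_symm.domRestrict : _)
  let g : (An.opensToCl T).obj U ⟶ A :=
    ⟨fun u => e.symm u.1, hcont, fun u => by
      rw [he]
      exact e.right_inv u.2⟩
  have hmem : A.p a ∈ U := by
    change A.p a ∈ e.target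
    rw [he]
    exact e.map_source ha
  refine ⟨U, hmem, g, ?_⟩
  change e.symm (A.p a) = a
  rw [he]
  exact e.left_inv ha

instance initiallySmall_elements (t : T) : InitiallySmall.{u} (fiber t).Elements := by
  let s : Set (fiber t).Elements := Set.range fun U : {U : Opens T // t ∈ U} =>
    (⟨(An.opensToCl T).obj U.1, ⟨⟨t, U.2⟩, rfl⟩⟩ : (fiber t).Elements)
  have : Small.{u} s := small_range _
  refine initiallySmall_of_small_weakly_initial_set s ?_
  rintro ⟨A, a, rfl⟩
  obtain ⟨U, h, g, hg⟩ := exists_section a
  exact ⟨_, ⟨⟨U, h⟩, rfl⟩, ⟨⟨g, Subtype.ext hg⟩⟩⟩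

/-- The point of the classical site attached to a point of the space. -/
@[simps fiber]
def point (t : T) : (An.Cl.topology T).Point where
  fiber := fiber t
  jointly_surjective {A} R hR a := by
    obtain ⟨B, g, hg, -, b, hb⟩ := hR a.1
    exact ⟨B, g, hg, ⟨b, by rw [← g.over, hb]; exact a.2⟩, Subtype.ext hb⟩

/-- The germ of a section of a presheaf of abelian groups at a point. -/
def germ (G : (An.Cl T)ᵒᵖ ⥤ AddCommGrpCat.{u + 1}) (A : An.Cl T) (a : A.E) :
    G.obj (op A) ⟶ (point (A.p a)).presheafFiber.obj G :=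
  (point (A.p a)).toPresheafFiber A (⟨a, rfl⟩ : (fiber (A.p a)).obj A) G

/-- Two sections with the same germ at `a` agree on a neighbourhood of `a`. -/
theorem exists_map_eq_of_germ_eq (G : (An.Cl T)ᵒᵖ ⥤ AddCommGrpCat.{u + 1}) {A : An.Cl T} {t : T}
    (a : (point t).fiber.obj A) (s s' : G.obj (op A))
    (h : (point t).toPresheafFiber A a G s = (point t).toPresheafFiber A a G s') :
    ∃ (B : An.Cl T) (g : B ⟶ A) (b : B.E), g.toFun b = a.1 ∧ G.map g.op s = G.map g.op s' := by
  obtain ⟨B, g, b, hb, h⟩ := ((point t).toPresheafFiber_eq_iff' A a s s').1 h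
  exact ⟨B, g, b.1, congrArg Subtype.val hb, h⟩

/-- Sections which agree locally around every point agree. -/
theorem eq_of_forall_exists_map_eq (G : An.Cl.Ab T) {A : An.Cl T} (s s' : G.obj.obj (op A))
    (h : ∀ a : A.E, ∃ (B : An.Cl T) (g : B ⟶ A) (b : B.E), g.toFun b = a ∧
      G.obj.map g.op s = G.obj.map g.op s') : s = s' := by
  have h0 := (Presheaf.isSheaf_iff_isSheaf_forget _ _ (forget AddCommGrpCat.{u + 1})).1 G.property
  rw [isSheaf_iff_isSheaf_of_type] at h0
  let R : Sieve A :=
    { arrows := fun B g => G.obj.map g.op s = G.obj.map g.op s'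
      downward_closed := by
        intro B C g hg k
        rw [op_comp, Functor.map_comp]
        change G.obj.map k.op (G.obj.map g.op s) = G.obj.map k.op (G.obj.map g.op s')
        rw [show G.obj.map g.op s = G.obj.map g.op s' from hg] }
  have hR : R ∈ An.Cl.topology T A := (mem_topology_iff R).2 fun a => by
    obtain ⟨B, g, b, hb, hg⟩ := h a
    exact ⟨B, g, b, hg, hb⟩
  exact (h0 R hR).isSeparatedFor.ext fun B g hg => hg

/-- A section all of whose germs vanish is zero. -/
theorem eq_of_germ_eq (G : An.Cl.Ab T) {A : An.Cl T} (s s' : G.obj.obj (op A))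
    (h : ∀ a : A.E, germ G.obj A a s = germ G.obj A a s') : s = s' :=
  eq_of_forall_exists_map_eq G s s' fun a => by
    obtain ⟨B, g, b, hb, h⟩ := exists_map_eq_of_germ_eq G.obj _ s s' (h a)
    exact ⟨B, g, b, hb, h⟩

/-- Restriction of sections on the classical site. -/
abbrev res (G : An.Cl.Ab T) {A B : An.Cl T} (g : B ⟶ A) :
    An.Cl.sect G A →+ An.Cl.sect G B := (G.obj.map g.op).hom

theorem res_comp (G : An.Cl.Ab T) {A B C : An.Cl T} (g : B ⟶ A)
    (k : C ⟶ B) (s : An.Cl.sect G A) : res G (k ≫ g) s = res G k (res G g s) := by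
  simp [res]

theorem res_id (G : An.Cl.Ab T) {A : An.Cl T}
    (s : An.Cl.sect G A) : res G (𝟙 A) s = s := by
  simp [res]

theorem res_naturality {F G : An.Cl.Ab T} (α : F ⟶ G) {A B : An.Cl T} (g : B ⟶ A)
    (s : An.Cl.sect F A) :
    res G g (α.hom.app (op A) s) = α.hom.app (op B) (res F g s) :=
  (congrArg (fun (t : F.obj.obj (op A) ⟶ G.obj.obj (op B)) => t s) (α.hom.naturality g.op)).symm

/-- A section which vanishes locally around every point is zero. -/
theorem eq_zero_of_forall (G : An.Cl.Ab T) {A : An.Cl T} (s : An.Cl.sect G A)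
    (h : ∀ a : A.E, ∃ (B : An.Cl T) (g : B ⟶ A) (b : B.E), g.toFun b = a ∧
      res G g s = 0) : s = 0 :=
  eq_of_forall_exists_map_eq G s 0 fun a => by
    obtain ⟨B, g, b, hb, hg⟩ := h a
    exact ⟨B, g, b, hb, hg.trans (map_zero (res G g)).symm⟩

end Groth.Agent.An.H885.ClPoint
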