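import Groth.Prelude.Def_AnEps
import Groth.Agent.An.H885.ClPoint
import Groth.Agent.An.H883.EpsLim
import Groth.Agent.EtpbcA.ConsPull
import Groth.Agent.EtpbcA.Germ
import Groth.Agent.EtpbcA.ConsVan
import Groth.Agent.An.H863.PtsBasic
import Mathlib.Analysis.Complex.Polynomial.Basic

/-!
# Germs of the sheaves `ε^* F`

* `coverPreserving_eps`: the comparison functor preserves coverings;
* `eta_eq_zero_iff`/`van_eta_iff`: the section `η s` of `ε^* F` vanishes near a complex point iff `s` vanishes near it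
  for the étale topology;
* `exists_eta`: every section of `ε^* F` is locally the pullback of some `η s`, `s` a section of `F`;
* `eta_injective`: the unit `F → ε_* ε^* F` is injective on sections.
-/

set_option autoImplicit false
open CategoryTheory CategoryTheory.Limits AlgebraicGeometry TopologicalSpace Topology Opposite

noncomputable section

namespace Groth.Agent.An.H885.EpsGerm

open Groth.Agent.An.H885.ClPoint

variable (X : Scheme.{0}) [X.Over An.SC]

/-- A complex point of an étale `X`-scheme lifting a point. -/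
theorem exists_pts_lift {U V : X.Etale} (g : V ⟶ U) (a : An.Pts U.left) (v : V.left)
    (h : g.left v = a.pt) : ∃ b : An.Pts V.left, An.Pts.map (X := V.left) (Y := U.left) g.left b = a ∧
      b.pt = v := by
  have hdef : (default : PrimeSpectrum ℂ) = An.cpt := (An.eq_cpt _).symm ▸ rfl
  obtain ⟨l, hl, hl'⟩ := Scheme.exists_fac_of_etale_of_isSepClosed (Ω := ℂ) g.left a.1 v
    (h.trans rfl)
  refine ⟨⟨l, ?_⟩, Subtype.ext hl, hl'⟩
  have h1 := a.2
  have h2 : g.left ≫ U.hom = V.hom := Over.w g.hom
  change l ≫ V.hom ≫ (X ↘ An.SC) = 𝟙 _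
  rw [← h2, Category.assoc, ← Category.assoc, hl]
  exact h1

variable [LocallyOfFiniteType (X ↘ An.SC)] [Fact An.EtaleLH]

/-- The comparison functor preserves coverings. -/
theorem coverPreserving_eps :
    CoverPreserving X.smallEtaleTopology (An.Cl.topology (An.Pts X)) (An.eps X) where
  cover_preserve {U S} hS := by
    rw [mem_topology_iff]
    intro a
    obtain ⟨V, g, hg, v, hv⟩ := (EtpbcA.Germ.mem_iff S).1 hS (An.Pts.pt (X := U.left) a)
    obtain ⟨b, hb, -⟩ := exists_pts_lift X g a v hv
    exact ⟨_, (An.eps X).map g, b, Sieve.image_mem_functorPushforward _ _ hg, hb⟩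

/-- The geometric point attached to a complex point. -/
abbrev gpt (t : An.Pts X) : Spec (CommRingCat.of ℂ) ⟶ X := t.1

/-- The complex points of `U` above `t` are the geometric points of `U` above `t`. -/
def fiberIso (t : An.Pts X) :
    (Scheme.pointSmallEtale (gpt X t)).fiber ≅ An.eps X ⋙ fiber t :=
  NatIso.ofComponents (fun U => {
    hom := TypeCat.ofHom fun φ => ⟨⟨φ.left, by
      have h : φ.left ≫ U.hom = t.1 := Over.w φ
      change φ.left ≫ U.hom ≫ (X ↘ An.SC) = 𝟙 _
      rw [← Category.assoc, h]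
      exact t.2⟩, Subtype.ext (Over.w φ)⟩
    inv := TypeCat.ofHom fun a => Over.homMk a.1.1 (congrArg Subtype.val a.2)
    hom_inv_id := rfl
    inv_hom_id := rfl }) (fun _ => rfl)

instance isEquivalence_map_fiberIso (t : An.Pts X) :
    (CategoryOfElements.map (fiberIso X t).hom).IsEquivalence where
  faithful := ⟨fun {a b f g} h => Subtype.ext (congrArg (fun k => k.1) h)⟩
  full := ⟨fun {a b} f => ⟨⟨f.1, by
    have h := f.2
    apply ((fiberIso X t).app b.1).toEquiv.injective
    refine Eq.trans ?_ h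
    exact NatTrans.naturality_apply (fiberIso X t).hom f.1 a.2⟩, rfl⟩⟩
  essSurj := ⟨fun a => ⟨⟨a.1, (fiberIso X t).inv.app a.1 a.2⟩, ⟨eqToIso (by
    refine Sigma.ext rfl (heq_of_eq ?_)
    exact ConcreteCategory.congr_hom ((fiberIso X t).inv_hom_id_app a.1) a.2)⟩⟩⟩

theorem initiallySmall_eps' (t : An.Pts X) :
    InitiallySmall.{0} (An.eps X ⋙ fiber t).Elements :=
  initiallySmall_of_initial_of_initiallySmall (CategoryOfElements.map (fiberIso X t).hom)

instance initiallySmall_eps (t : An.Pts X) :
    InitiallySmall.{0} (An.eps X ⋙ (point t).fiber).Elements :=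
  initiallySmall_eps' X t

instance representablyFlat_eps : RepresentablyFlat (An.eps X) :=
  Groth.Agent.An.H883.EpsLim.representablyFlat_eps X

/-- Étale schemes over `X` are locally of finite type over `ℂ`. -/
instance locallyOfFiniteType_left (U : X.Etale) : LocallyOfFiniteType (U.left ↘ An.SC) := by
  have h : Etale U.hom := U.prop
  change LocallyOfFiniteType (U.hom ≫ (X ↘ An.SC))
  infer_instance

variable [An.EpsCont X] (F : EtCoh.Ab X)

/-- The unit `F(U) → (ε^* F)(U(ℂ))`. -/
def eta (U : X.Etale) : EtCoh.sect F U →+ An.Cl.sect ((An.epsPull X).obj F) ((An.eps X).obj U) :=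
  (((An.epsAdj X).unit.app F).hom.app (op U)).hom

theorem res_eta {U V : X.Etale} (g : V ⟶ U) (s : EtCoh.sect F U) :
    res ((An.epsPull X).obj F) ((An.eps X).map g) (eta X F U s) =
      eta X F V (EtpbcA.Germ.res F g s) := by
  have h := ((An.epsAdj X).unit.app F).hom.naturality g.op
  exact (congrArg (fun (t : F.obj.obj (op U) ⟶
    ((An.epsPull X).obj F).obj.obj (op ((An.eps X).obj V))) => t s) h).symm

/-- If `η s` has zero germ at a complex point, then `s` vanishes on an étale neighbourhood. -/
theorem exists_res_eq_of_eta_germ {U : X.Etale} (s s' : EtCoh.sect F U) {t : An.Pts X}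
    (a : (point t).fiber.obj ((An.eps X).obj U))
    (h : (point t).toPresheafFiber ((An.eps X).obj U) a ((An.epsPull X).obj F).obj (eta X F U s) =
      (point t).toPresheafFiber ((An.eps X).obj U) a ((An.epsPull X).obj F).obj (eta X F U s')) :
    ∃ (V : X.Etale) (g : V ⟶ U) (b : An.Pts V.left),
      An.Pts.map (X := V.left) (Y := U.left) g.left b = a.1 ∧
        EtpbcA.Germ.res F g s = EtpbcA.Germ.res F g s' := by
  let Ψ := (point t).comap (An.eps X) (coverPreserving_eps X)
  have h4 : ∀ s, (EtpbcA.ConsPull.cmap (point t) (An.eps X) (coverPreserving_eps X) AddCommGrpCat.{1} F)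
      (Ψ.toPresheafFiber U a F.obj s) = (point t).toPresheafFiber ((An.eps X).obj U) a
        ((An.epsPull X).obj F).obj (eta X F U s) := fun s =>
    congrArg (fun (k : F.obj.obj (op U) ⟶
        (point t).presheafFiber.obj ((An.epsPull X).obj F).obj) => k s)
      (EtpbcA.ConsPull.toPresheafFiber_cmap (point t) (An.eps X) (coverPreserving_eps X)
        AddCommGrpCat.{1} F U a)
  have := EtpbcA.ConsPull.isIso_cmap (point t) (An.eps X) (coverPreserving_eps X)
    AddCommGrpCat.{1} F
  have h5 : Ψ.toPresheafFiber U a F.obj s = Ψ.toPresheafFiber U a F.obj s' := by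
    apply (ConcreteCategory.bijective_of_isIso (EtpbcA.ConsPull.cmap (point t) (An.eps X)
      (coverPreserving_eps X) AddCommGrpCat.{1} F)).1
    rw [h4, h4, h]
  obtain ⟨V, g, b, hb, hg⟩ := (Ψ.toPresheafFiber_eq_iff' U a s s').1 h5
  exact ⟨V, g, b.1, congrArg Subtype.val hb, hg⟩

/-- **Local injectivity**: if `c^* η s = c^* η s'` for `c : B → U(ℂ)` and `b ∈ B`, then `s = s'`
on an étale neighbourhood of `c(b)`. -/
theorem exists_res_eq {U : X.Etale} (s s' : EtCoh.sect F U) {B : An.Cl (An.Pts X)}
    (c : B ⟶ (An.eps X).obj U) (b : B.E)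
    (h : res ((An.epsPull X).obj F) c (eta X F U s) =
      res ((An.epsPull X).obj F) c (eta X F U s')) :
    ∃ (V : X.Etale) (g : V ⟶ U) (v : An.Pts V.left),
      An.Pts.map (X := V.left) (Y := U.left) g.left v = c.toFun b ∧
        EtpbcA.Germ.res F g s = EtpbcA.Germ.res F g s' := by
  let t := B.p b
  let β : (point t).fiber.obj B := ⟨b, rfl⟩
  have key : ∀ s, (point t).toPresheafFiber ((An.eps X).obj U) ((point t).fiber.map c β)
      ((An.epsPull X).obj F).obj (eta X F U s) = (point t).toPresheafFiber B β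
        ((An.epsPull X).obj F).obj (res ((An.epsPull X).obj F) c (eta X F U s)) := fun s =>
    ((point t).toPresheafFiber_w_apply c β ((An.epsPull X).obj F).obj (eta X F U s)).symm
  obtain ⟨V, g, v, hv, hg⟩ := exists_res_eq_of_eta_germ X F s s' ((point t).fiber.map c β)
    (by rw [key, key, h])
  exact ⟨V, g, v, hv, hg⟩

/-- **Generation**: every section of `ε^* F` is locally the pullback of a section of `F`. -/
theorem exists_eta {B : An.Cl (An.Pts X)} (s : An.Cl.sect ((An.epsPull X).obj F) B) (b : B.E) :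
    ∃ (U : X.Etale) (r : EtCoh.sect F U) (C : An.Cl (An.Pts X)) (k : C ⟶ B)
      (c : C ⟶ (An.eps X).obj U) (x : C.E), k.toFun x = b ∧
        res ((An.epsPull X).obj F) k s = res ((An.epsPull X).obj F) c (eta X F U r) := by
  let t := B.p b
  let β : (point t).fiber.obj B := ⟨b, rfl⟩
  let Ψ := (point t).comap (An.eps X) (coverPreserving_eps X)
  have := EtpbcA.ConsPull.isIso_cmap (point t) (An.eps X) (coverPreserving_eps X)
    AddCommGrpCat.{1} F
  obtain ⟨p, hp⟩ := (ConcreteCategory.bijective_of_isIso (EtpbcA.ConsPull.cmap (point t)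
      (An.eps X) (coverPreserving_eps X) AddCommGrpCat.{1} F)).2
      ((point t).toPresheafFiber B β ((An.epsPull X).obj F).obj s)
  obtain ⟨U, a, r, hr⟩ := Ψ.toPresheafFiber_jointly_surjective p
  have h4 : (EtpbcA.ConsPull.cmap (point t) (An.eps X) (coverPreserving_eps X) AddCommGrpCat.{1} F)
      (Ψ.toPresheafFiber U a F.obj r) = (point t).toPresheafFiber ((An.eps X).obj U) a
        ((An.epsPull X).obj F).obj (eta X F U r) :=
    congrArg (fun (k : F.obj.obj (op U) ⟶
        (point t).presheafFiber.obj ((An.epsPull X).obj F).obj) => k r)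
      (EtpbcA.ConsPull.toPresheafFiber_cmap (point t) (An.eps X) (coverPreserving_eps X)
        AddCommGrpCat.{1} F U a)
  have h5 : (point t).toPresheafFiber ((An.eps X).obj U) a ((An.epsPull X).obj F).obj
      (eta X F U r) = (point t).toPresheafFiber B β ((An.epsPull X).obj F).obj s := by
    rw [← hp, ← hr, h4]
  obtain ⟨⟨C₀, c₀⟩, ⟨k₀, hk₀⟩, ⟨l₀, hl₀⟩, -⟩ := IsCofilteredOrEmpty.cone_objs
    ((point t).fiber.elementsMk B β) ((point t).fiber.elementsMk ((An.eps X).obj U) a)
  change (point t).fiber.map k₀ c₀ = β at hk₀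
  change (point t).fiber.map l₀ c₀ = a at hl₀
  have h6 : (point t).toPresheafFiber C₀ c₀ ((An.epsPull X).obj F).obj
      (res ((An.epsPull X).obj F) k₀ s) = (point t).toPresheafFiber C₀ c₀
        ((An.epsPull X).obj F).obj (res ((An.epsPull X).obj F) l₀ (eta X F U r)) := by
    have e1 := (point t).toPresheafFiber_w_apply k₀ c₀ ((An.epsPull X).obj F).obj s
    have e2 := (point t).toPresheafFiber_w_apply l₀ c₀ ((An.epsPull X).obj F).obj (eta X F U r)
    rw [hk₀] at e1
    rw [hl₀] at e2
    exact e1.trans (h5.symm.trans e2.symm)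
  obtain ⟨C, k, y, hy, hk⟩ := exists_map_eq_of_germ_eq _ _ _ _ h6
  refine ⟨U, r, C, k ≫ k₀, k ≫ l₀, y, ?_, ?_⟩
  · change k₀.toFun (k.toFun y) = b
    rw [hy]
    exact congrArg Subtype.val hk₀
  · rw [res_comp, res_comp]
    exact hk

omit [Fact An.EtaleLH] [An.EpsCont X] in
/-- If `η s` vanishes near every complex point then `s = 0`. -/
theorem eq_zero_of_forall {U : X.Etale} (s : EtCoh.sect F U)
    (h : ∀ a : An.Pts U.left, EtpbcA.ConsVan.Van F s a.pt) : s = 0 := by
  refine EtpbcA.ConsVan.eq_zero_of_van s fun x => ?_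
  by_contra hx
  obtain ⟨a, ha⟩ := H863.PtsBasic.exists_pt_mem_of_isClosed (X := U.left)
    (Z := {x | EtpbcA.ConsVan.Van F s x}ᶜ) (EtpbcA.ConsVan.isOpen_van s).isClosed_compl ⟨x, hx⟩
  exact ha (h a)

/-- The unit `F → ε_* ε^* F` is injective on sections. -/
theorem eta_injective (U : X.Etale) : Function.Injective (eta X F U) := by
  rw [injective_iff_map_eq_zero]
  intro s hs
  refine eq_zero_of_forall X F s fun a => ?_
  obtain ⟨V, g, v, hv, hg⟩ := exists_res_eq X F s 0 (𝟙 ((An.eps X).obj U)) a
    (by rw [hs, map_zero, map_zero, map_zero])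
  refine ⟨V, g, v.pt, ?_, ?_⟩
  · have h1 : An.Pts.map (X := V.left) (Y := U.left) g.left v = a := hv
    rw [← h1, An.Pts.pt_map]
  · exact hg.trans (map_zero _)

end Groth.Agent.An.H885.EpsGerm
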