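import Groth.Agent.An.H579.RetAlg
import Groth.Agent.An.H410.Sep
import Mathlib.RingTheory.Polynomial.ScaleRoots

/-!
# Functions with prescribed values on a fibre of a finite covering of `ℂ ∖ S`, integral over `ℂ[z]`
-/

set_option autoImplicit false

open Set Topology Metric Polynomial Filter

namespace Groth.Agent.An.H885.FamOne

open Groth.Agent.An.H579.RetCov

/-- the coefficients of `∏ (X - a_y(z))` are differentiable -/
lemma differentiableAt_coeff {ι : Type*} (T : Finset ι) (g : ι → ℂ → ℂ) (z : ℂ)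
    (hg : ∀ y ∈ T, DifferentiableAt ℂ (g y) z) (j : ℕ) :
    DifferentiableAt ℂ (fun z' => (∏ y ∈ T, ((X : ℂ[X]) - C (g y z'))).coeff j) z := by
  classical
  induction T using Finset.induction_on generalizing j with
  | empty => simp
  | insert a T ha ih =>
    have ih' := ih (fun y hy => hg y (Finset.mem_insert_of_mem hy))
    have hga := hg a (Finset.mem_insert_self _ _)
    simp only [Finset.prod_insert ha, mul_comm (X - C _)]
    cases j with
    | zero =>
      simp only [mul_coeff_zero, coeff_sub, coeff_X_zero, coeff_C_zero, zero_sub]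
      exact (ih' 0).mul hga.neg
    | succ j =>
      simp only [coeff_mul_X_sub_C]
      exact (ih' j).sub ((ih' (j + 1)).mul hga)

/-- bound for the coefficients of `∏ (X - a_y)` -/
lemma norm_coeff_le {ι : Type*} (T : Finset ι) (a : ι → ℂ) (B : ℝ) (hB : 0 ≤ B)
    (ha : ∀ y ∈ T, ‖a y‖ ≤ B) (j : ℕ) :
    ‖(∏ y ∈ T, ((X : ℂ[X]) - C (a y))).coeff j‖ ≤ (1 + B) ^ T.card := by
  classical
  induction T using Finset.induction_on generalizing j with
  | empty =>
    simp only [Finset.prod_empty, Finset.card_empty, pow_zero, coeff_one]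
    split_ifs <;> simp
  | insert x T hx ih =>
    have ih' := ih (fun y hy => ha y (Finset.mem_insert_of_mem hy))
    have hax := ha x (Finset.mem_insert_self _ _)
    rw [Finset.prod_insert hx, mul_comm, Finset.card_insert_of_notMem hx, pow_succ]
    have hM : 0 ≤ (1 + B) ^ T.card := by positivity
    cases j with
    | zero =>
      simp only [mul_coeff_zero, coeff_sub, coeff_X_zero, coeff_C_zero, zero_sub, norm_mul, norm_neg]
      calc _ ≤ (1 + B) ^ T.card * B := by
            gcongr
            exact ih' 0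
        _ ≤ _ := by
            gcongr
            linarith
    | succ j =>
      rw [coeff_mul_X_sub_C]
      calc _ ≤ ‖_‖ + ‖_ * _‖ := norm_sub_le _ _
        _ ≤ (1 + B) ^ T.card + (1 + B) ^ T.card * B := by
            rw [norm_mul]
            gcongr
            · exact ih' j
            · exact ih' (j + 1)
        _ = _ := by ring

lemma prod_scaleRoots {ι : Type*} (T : Finset ι) (a : ι → ℂ) (s : ℂ) :
    ∏ y ∈ T, ((X : ℂ[X]) - C (s * a y)) = (∏ y ∈ T, (X - C (a y))).scaleRoots s := by
  classical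
  induction T using Finset.induction_on with
  | empty => simp
  | insert x T hx ih =>
    rw [Finset.prod_insert hx, Finset.prod_insert hx, ih, mul_scaleRoots_of_noZeroDivisors]
    congr 1
    have := X_add_C_scaleRoots (-(a x)) s
    rw [C_neg, ← sub_eq_add_neg] at this
    rw [this, neg_mul, C_neg, ← sub_eq_add_neg, mul_comm]

variable {Y : Type} [TopologicalSpace Y] {S : Finset ℂ} {p : Y → ℂ} (h : FinCov (S : Set ℂ) p)

/-- the characteristic polynomial on the fibre over `z` -/
noncomputable def chp (G : Y → ℂ) (z : ℂ) : ℂ[X] := ∏ y ∈ (h.fin z).toFinset, (X - C (G y))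

lemma chp_eventuallyEq (G : Y → ℂ) {z : ℂ} (hz : z ∉ S) :
    chp h G =ᶠ[𝓝 z] fun z' => ∏ y ∈ (h.fin z).toFinset, (X - C (G (h.sec y z'))) := by
  have := h.push_eventuallyEq (z₀ := z) hz (M := Additive ℂ[X])
    (fun y => Additive.ofMul ((X : ℂ[X]) - C (G y)))
  filter_upwards [this] with z' hz'
  unfold FinCov.push at hz'
  exact Additive.ofMul.injective hz'

lemma differentiableAt_chp {G : Y → ℂ} (hG : h.Hol G) {z : ℂ} (hz : z ∉ S) (j : ℕ) :
    DifferentiableAt ℂ (fun z' => (chp h G z').coeff j) z := by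
  refine (differentiableAt_coeff (h.fin z).toFinset (fun y z' => G (h.sec y z')) z ?_ j).congr_of_eventuallyEq
    ((chp_eventuallyEq h G hz).fun_comp (fun P => P.coeff j))
  intro y hy
  have := hG y
  rwa [h.mem_fib.1 hy] at this

lemma chp_natDegree (G : Y → ℂ) (z : ℂ) : (chp h G z).natDegree = (h.fin z).toFinset.card :=
  natDegree_finsetProd_X_sub_C_eq_card _ _

lemma chp_monic (G : Y → ℂ) (z : ℂ) : (chp h G z).Monic :=
  monic_prod_of_monic _ _ fun _ _ => monic_X_sub_C _

/-- uniform rational form of the coefficients of the characteristic polynomial -/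
lemma exists_coeff {G : Y → ℂ} (hG : h.Hol G) (hm : Mod S p G) :
    ∃ N : ℕ, ∀ j, ∃ P : ℂ[X], ∀ z, z ∉ S → (chp h G z).coeff j * ((PS S).eval z) ^ N = P.eval z := by
  obtain ⟨n, hn⟩ := h.exists_card
  obtain ⟨K, N, hK⟩ := hm
  refine ⟨N * n, fun j => exists_rational S _ (fun z hz => differentiableAt_chp h hG hz j)
    ((1 + |K|) ^ n) (N * n) fun z hz => ?_⟩
  have h1 := one_le_wt S z
  have h2 : 1 ≤ wt S z ^ N := one_le_pow₀ h1
  have h3 := norm_coeff_le (h.fin z).toFinset G (|K| * wt S z ^ N) (by positivity) (fun y hy => by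
    rw [← h.mem_fib.1 hy]
    refine (hK y).trans ?_
    have : 0 ≤ wt S (p y) ^ N := by
      have := one_le_wt S (p y)
      positivity
    gcongr
    exact le_abs_self K) j
  refine h3.trans ?_
  rw [hn z hz, pow_mul, ← mul_pow]
  have h4 : 0 ≤ |K| * wt S z ^ N := by positivity
  gcongr
  nlinarith [abs_nonneg K]

theorem exists_alg_one {Y : Type} [TopologicalSpace Y] (S : Finset ℂ) (p : Y → ℂ)
    (h : Groth.Agent.An.H579.RetCov.FinCov (S : Set ℂ) p) (z₀ : ℂ) (hz₀ : z₀ ∉ S) (v : Y → ℂ) :
    ∃ (f : Polynomial (Polynomial ℂ)) (F : Y → ℂ), f.Monic ∧ Continuous F ∧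
      (∀ y, p y = z₀ → F y = v y) ∧
      ∀ z, z ∉ S → f.map (Polynomial.evalRingHom z) =
        ∏ y ∈ (h.fin z).toFinset, (Polynomial.X - Polynomial.C (F y)) := by
  classical
  -- a function in the algebra with the prescribed values
  have hs : h.SEP := Groth.Agent.An.H410.Sep.sep h
  choose E hE1 hE2 hE3 hE4 using hs
  let G : h.alg := ∑ y ∈ (h.fin z₀).toFinset, (v y) • (⟨E y, hE1 y, hE2 y⟩ : h.alg)
  have hG : ∀ w, (G : Y → ℂ) w = ∑ y ∈ (h.fin z₀).toFinset, v y * E y w := by
    intro w
    have : (G : Y → ℂ) = ∑ y ∈ (h.fin z₀).toFinset, (v y) • E y := by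
      simp only [G, AddSubmonoidClass.coe_finsetSum]
      rfl
    rw [this, Finset.sum_apply]
    rfl
  have hGv : ∀ y, p y = z₀ → (G : Y → ℂ) y = v y := by
    intro w hw
    rw [hG, Finset.sum_eq_single w]
    · rw [hE3, mul_one]
    · intro y hy hne
      rw [hE4 y w (hw.trans (h.mem_fib.1 hy).symm) (Ne.symm hne), mul_zero]
    · intro hw'
      exact absurd (h.mem_fib.2 hw) hw'
  obtain ⟨N, hN⟩ := exists_coeff h G.2.1 G.2.2
  choose P hP using hN
  obtain ⟨n, hn⟩ := h.exists_card
  set c : ℂ := ((PS S).eval z₀) ^ N with hc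
  have hc0 : c ≠ 0 := pow_ne_zero N (eval_PS_ne_zero.2 hz₀)
  -- the scaling factor
  let lam : ℂ[X] := C c⁻¹ * (PS S) ^ N
  have hlam : ∀ z, lam.eval z = c⁻¹ * ((PS S).eval z) ^ N := by
    intro z
    simp [lam]
  let Q : ℕ → ℂ[X] := fun j => C c⁻¹ * P j * lam ^ (n - j - 1)
  let f : Polynomial ℂ[X] := X ^ n + ∑ j ∈ Finset.range n, C (Q j) * X ^ j
  have hdeg : (∑ j ∈ Finset.range n, C (Q j) * (X : Polynomial ℂ[X]) ^ j).degree < (n : WithBot ℕ) := by
    rw [← mem_degreeLT]
    refine Submodule.sum_mem _ fun j hj => mem_degreeLT.2 ?_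
    exact (degree_C_mul_X_pow_le _ _).trans_lt (by exact_mod_cast Finset.mem_range.1 hj)
  refine ⟨f, fun y => lam.eval (p y) * (G : Y → ℂ) y, monic_X_pow_add hdeg, ?_, ?_, ?_⟩
  · exact (lam.continuous.comp h.continuous).mul G.2.1.continuous
  · intro y hy
    simp only [hy, hlam, hGv y hy]
    rw [← hc, inv_mul_cancel₀ hc0, one_mul]
  · intro z hz
    have h1 : ∏ y ∈ (h.fin z).toFinset, ((X : ℂ[X]) - C (lam.eval (p y) * (G : Y → ℂ) y)) =
        (chp h (G : Y → ℂ) z).scaleRoots (lam.eval z) := by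
      rw [chp, ← prod_scaleRoots]
      refine Finset.prod_congr rfl fun y hy => ?_
      rw [h.mem_fib.1 hy]
    rw [h1]
    refine Polynomial.ext fun j => ?_
    rw [coeff_scaleRoots, chp_natDegree, hn z hz, coeff_map]
    have hf : f.coeff j = (if j = n then 1 else 0) + (if j < n then Q j else 0) := by
      simp only [f, coeff_add, coeff_X_pow, finsetSum_coeff, coeff_C_mul, mul_ite, mul_one, mul_zero]
      congr 1
      rw [Finset.sum_ite_eq]
      simp only [Finset.mem_range]
    rw [hf, map_add]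
    rcases lt_trichotomy j n with hj | hj | hj
    · rw [if_neg hj.ne, if_pos hj, map_zero, zero_add]
      simp only [Q, coe_evalRingHom, eval_mul, eval_C, eval_pow, hlam]
      rw [← hP j z hz]
      obtain ⟨k, hk⟩ : ∃ k, n - j = k + 1 := ⟨n - j - 1, by omega⟩
      rw [hk]
      simp only [Nat.add_sub_cancel]
      ring
    · subst hj
      have hm := chp_monic h (G : Y → ℂ) z
      have hd := chp_natDegree h (G : Y → ℂ) z
      rw [hn z hz] at hd
      have : (chp h (G : Y → ℂ) z).coeff j = 1 := by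
        rw [← hd]; exact hm
      simp [this]
    · rw [if_neg hj.ne', if_neg (by omega)]
      have : (chp h (G : Y → ℂ) z).coeff j = 0 :=
        coeff_eq_zero_of_natDegree_lt (by rw [chp_natDegree, hn z hz]; exact hj)
      simp [this]

end Groth.Agent.An.H885.FamOne
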