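import Groth.Agent.An.H885.ClPoint
import Mathlib.CategoryTheory.Sites.ConstantSheaf

/-!
# Constant sheaves on the classical site, in terms of sections

`IsConstVia G A φ`: the homomorphism `φ : M → G(A)` exhibits `G|_A` as the constant sheaf `M`.
`nonempty_iso_iff`: `G|_A ≅ M_A` iff there is such a `φ`.
`isFiniteLocallyConstant_iff`.
-/

universe u

set_option autoImplicit false
open CategoryTheory CategoryTheory.Limits TopologicalSpace Topology Opposite

noncomputable section

namespace Groth.Agent.An.H885.ClConst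

open Groth.Agent.An.H885.ClPoint

variable {T : Type u} [TopologicalSpace T]

/-- `φ : M → G(A)` exhibits `G|_A` as constant with value `M`. -/
structure IsConstVia {M : Type*} [AddCommGroup M] (G : An.Cl.Ab T) (A : An.Cl T)
    (φ : M →+ An.Cl.sect G A) : Prop where
  inj : ∀ (B : An.Cl T) (g : B ⟶ A) (_ : B.E) (m : M), res G g (φ m) = 0 → m = 0
  surj : ∀ (B : An.Cl T) (g : B ⟶ A) (b : B.E) (s : An.Cl.sect G B),
    ∃ (C : An.Cl T) (k : C ⟶ B) (c : C.E) (m : M), k.toFun c = b ∧
      res G k s = res G (k ≫ g) (φ m)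

namespace IsConstVia

variable {M : Type*} [AddCommGroup M] {G : An.Cl.Ab T} {A : An.Cl T} {φ : M →+ An.Cl.sect G A}

theorem injective (h : IsConstVia G A φ) {B : An.Cl T} (g : B ⟶ A) (b : B.E) {m m' : M}
    (e : res G g (φ m) = res G g (φ m')) : m = m' := by
  refine sub_eq_zero.1 (h.inj B g b (m - m') ?_)
  rw [map_sub, map_sub, e, sub_self]

theorem res' (h : IsConstVia G A φ) {B : An.Cl T} (g : B ⟶ A) :
    IsConstVia G B ((res G g).comp φ) where
  inj C k c m hm := h.inj C (k ≫ g) c m (by rw [res_comp]; exact hm)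
  surj C k c s := by
    obtain ⟨D, l, d, m, hd, e⟩ := h.surj C (k ≫ g) c s
    refine ⟨D, l, d, m, hd, ?_⟩
    rw [e]
    change res G (l ≫ k ≫ g) (φ m) = res G (l ≫ k) (res G g (φ m))
    rw [← res_comp, Category.assoc]

theorem comp_equiv (h : IsConstVia G A φ) {N : Type*} [AddCommGroup N] (e : N ≃+ M) :
    IsConstVia G A (φ.comp e.toAddMonoidHom) where
  inj B g b n hn := by
    have := h.inj B g b (e n) hn
    rwa [map_eq_zero_iff e e.injective] at this
  surj B g b s := by
    obtain ⟨C, k, c, m, hc, hm⟩ := h.surj B g b s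
    exact ⟨C, k, c, e.symm m, hc, by simpa using hm⟩

theorem map_iso (h : IsConstVia G A φ) {G' : An.Cl.Ab T} (e : G ≅ G') :
    IsConstVia G' A ((e.hom.hom.app (op A)).hom.comp φ) where
  inj B g b m hm := by
    refine h.inj B g b m ?_
    have h1 : e.hom.hom.app (op B) (res G g (φ m)) = 0 := by
      rw [← res_naturality]; exact hm
    have h2 : e.inv.hom.app (op B) (e.hom.hom.app (op B) (res G g (φ m))) = res G g (φ m) := by
      have := congrArg (fun (k : G ⟶ G) => k.hom.app (op B) (res G g (φ m))) e.hom_inv_id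
      exact this
    rw [← h2, h1, map_zero]
  surj B g b s := by
    obtain ⟨C, k, c, m, hc, hm⟩ := h.surj B g b (e.inv.hom.app (op B) s)
    refine ⟨C, k, c, m, hc, ?_⟩
    have h3 : e.hom.hom.app (op C) (res G k (e.inv.hom.app (op B) s)) = res G' k s := by
      rw [← res_naturality]
      congr 1
      exact congrArg (fun (k : G' ⟶ G') => k.hom.app (op B) s) e.inv_hom_id
    rw [← h3, hm]
    exact (res_naturality e.hom (k ≫ g) (φ m)).symm

end IsConstVia

section over

variable (G : An.Cl.Ab T) (A : An.Cl T) {M : Type} [AddCommGroup M]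

/-- The map from the constant presheaf on the over-site attached to a homomorphism
`M →+ G(A)`. -/
def constToOver (φ : M →+ An.Cl.sect G A) :
    (Functor.const (Over A)ᵒᵖ).obj (AddCommGrpCat.of (ULift.{u + 1} M)) ⟶ (G.over A).obj where
  app V := AddCommGrpCat.ofHom
    ((res G V.unop.hom).comp (φ.comp AddEquiv.ulift.toAddMonoidHom))
  naturality V W f := by
    ext m
    simp only [Functor.const_obj_obj, Functor.const_obj_map, Category.id_comp]
    change res G W.unop.hom (φ m.down) =
      res G f.unop.left (res G V.unop.hom (φ m.down))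
    rw [← res_comp, Over.w]

lemma constToOver_app (φ : M →+ An.Cl.sect G A) (V : (Over A)ᵒᵖ) (m : ULift.{u + 1} M) :
    (constToOver G A φ).app V m = res G V.unop.hom (φ m.down) := rfl

lemma W_constToOver_iff (φ : M →+ An.Cl.sect G A) :
    ((An.Cl.topology T).over A).W (constToOver G A φ) ↔ IsConstVia G A φ := by
  rw [GrothendieckTopology.W_iff_isLocallyBijective]
  constructor
  · rintro ⟨h1, h2⟩
    refine ⟨?_, ?_⟩
    · intro B g b m hm
      have := h1.equalizerSieve_mem (X := op (Over.mk g)) (⟨m⟩ : ULift.{u + 1} M) 0 (by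
        rw [map_zero]
        exact hm)
      rw [GrothendieckTopology.mem_over_iff, mem_topology_iff] at this
      obtain ⟨C, k, c, hk, -⟩ := this b
      rw [Sieve.overEquiv_iff] at hk
      have hk' : (⟨m⟩ : ULift.{u + 1} M) = 0 := hk
      exact congrArg ULift.down hk'
    · intro B g b s
      have := h2.imageSieve_mem (U := Over.mk g) s
      rw [GrothendieckTopology.mem_over_iff, mem_topology_iff] at this
      obtain ⟨C, k, c, hk, hc⟩ := this b
      rw [Sieve.overEquiv_iff] at hk
      obtain ⟨m, hm⟩ := hk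
      exact ⟨C, k, c, m.down, hc, hm.symm⟩
  · intro h
    refine ⟨⟨?_⟩, ⟨?_⟩⟩
    · intro V m m' e
      rw [GrothendieckTopology.mem_over_iff, mem_topology_iff]
      intro v
      refine ⟨V.unop.left, 𝟙 _, v, ?_, rfl⟩
      rw [Sieve.overEquiv_iff]
      have : m.down = m'.down := h.injective V.unop.hom v e
      have : m = m' := ULift.down_injective this
      subst this
      rfl
    · intro V s
      rw [GrothendieckTopology.mem_over_iff, mem_topology_iff]
      intro v
      obtain ⟨W, k, w, m, hw, e⟩ := h.surj _ V.hom v s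
      refine ⟨W, k, w, ?_, hw⟩
      rw [Sieve.overEquiv_iff]
      exact ⟨⟨m⟩, e.symm⟩

/-- `G|_A` is isomorphic to the constant sheaf `M` of the over-site iff some `φ : M →+ G(A)`
exhibits it. -/
theorem nonempty_iso_constantSheaf_iff :
    Nonempty (G.over A ≅
      (constantSheaf ((An.Cl.topology T).over A) AddCommGrpCat.{u + 1}).obj
        (AddCommGrpCat.of (ULift.{u + 1} M))) ↔ ∃ φ : M →+ An.Cl.sect G A, IsConstVia G A φ := by
  constructor
  · rintro ⟨e⟩
    let P : (Over A)ᵒᵖ ⥤ AddCommGrpCat.{u + 1} :=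
      (Functor.const (Over A)ᵒᵖ).obj (AddCommGrpCat.of (ULift.{u + 1} M))
    let c : P ⟶ (G.over A).obj :=
      toSheafify ((An.Cl.topology T).over A) P ≫ e.inv.hom
    have hc : ((An.Cl.topology T).over A).W c :=
      MorphismProperty.comp_mem _ _ _ (GrothendieckTopology.W_toSheafify _ P)
        ((GrothendieckTopology.W_sheafToPresheaf_map_iff_isIso _ e.inv).2 inferInstance)
    let φ : M →+ An.Cl.sect G A :=
      (c.app (op (Over.mk (𝟙 A)))).hom.comp AddEquiv.ulift.symm.toAddMonoidHom
    have hφ : c = constToOver G A φ := by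
      ext V m
      rw [constToOver_app]
      have := NatTrans.naturality_apply c (Over.homMk V.unop.hom : V.unop ⟶ Over.mk (𝟙 A)).op m
      exact this
    exact ⟨φ, by rwa [← W_constToOver_iff, ← hφ]⟩
  · rintro ⟨φ, hφ⟩
    rw [← W_constToOver_iff, GrothendieckTopology.W_iff] at hφ
    exact ⟨(asIso ((sheafificationAdjunction ((An.Cl.topology T).over A)
      AddCommGrpCat.{u + 1}).counit.app (G.over A))).symm ≪≫
        (asIso ((presheafToSheaf ((An.Cl.topology T).over A) AddCommGrpCat.{u + 1}).map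
          (constToOver G A φ))).symm⟩

end over

section const

variable (M : Type) [AddCommGroup M]

/-- The canonical map from the constant presheaf to the constant sheaf. -/
def constUnit : (Functor.const (An.Cl T)ᵒᵖ).obj (AddCommGrpCat.of (ULift.{u + 1} M)) ⟶
    (An.Cl.const T M).obj :=
  toSheafify (An.Cl.topology T)
    ((Functor.const (An.Cl T)ᵒᵖ).obj (AddCommGrpCat.of (ULift.{u + 1} M)))

/-- The constant sections of the constant sheaf. -/
def constSec (A : An.Cl T) : M →+ An.Cl.sect (An.Cl.const T M) A :=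
  ((constUnit M).app (op A)).hom.comp AddEquiv.ulift.symm.toAddMonoidHom

theorem res_constSec {A B : An.Cl T} (g : B ⟶ A) (m : M) :
    res (An.Cl.const T M) g (constSec M A m) = constSec M B m :=
  (NatTrans.naturality_apply (constUnit (T := T) M) g.op (⟨m⟩ : ULift.{u + 1} M)).symm

theorem isConstVia_constSec (A : An.Cl T) :
    IsConstVia (An.Cl.const T M) A (constSec M A) := by
  have hW : (An.Cl.topology T).W (constUnit (T := T) M) := GrothendieckTopology.W_toSheafify _ _
  rw [GrothendieckTopology.W_iff_isLocallyBijective] at hW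
  obtain ⟨h1, h2⟩ := hW
  refine ⟨?_, ?_⟩
  · intro B g b m hm
    rw [res_constSec] at hm
    have := h1.equalizerSieve_mem (X := op B) (⟨m⟩ : ULift.{u + 1} M) 0 (by
      rw [map_zero]
      exact hm)
    rw [mem_topology_iff] at this
    obtain ⟨C, k, c, hk, -⟩ := this b
    have hk' : (⟨m⟩ : ULift.{u + 1} M) = 0 := hk
    exact congrArg ULift.down hk'
  · intro B g b s
    have := h2.imageSieve_mem (U := B) s
    rw [mem_topology_iff] at this
    obtain ⟨C, k, c, hk, hc⟩ := this b
    obtain ⟨m, hm⟩ := hk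
    refine ⟨C, k, c, m.down, hc, ?_⟩
    rw [res_constSec]
    exact hm.symm

end const

/-- `G|_A ≅ M|_A` iff some `φ : M →+ G(A)` exhibits `G|_A` as constant. -/
theorem nonempty_iso_iff (G : An.Cl.Ab T) (A : An.Cl T) {M : Type} [AddCommGroup M] :
    Nonempty (G.over A ≅ (An.Cl.const T M).over A) ↔
      ∃ φ : M →+ An.Cl.sect G A, IsConstVia G A φ := by
  obtain ⟨e⟩ := (nonempty_iso_constantSheaf_iff (An.Cl.const T M) A (M := M)).2
    ⟨_, isConstVia_constSec M A⟩
  rw [← nonempty_iso_constantSheaf_iff]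
  exact ⟨fun ⟨f⟩ => ⟨f ≪≫ e⟩, fun ⟨f⟩ => ⟨f ≪≫ e.symm⟩⟩

/-- Criterion for finite locally constant sheaves on the classical site. -/
theorem isFiniteLocallyConstant_iff (G : An.Cl.Ab T) :
    An.Cl.IsFiniteLocallyConstant G ↔
      ∀ t : T, ∃ (A : An.Cl T) (a : A.E) (M : Type) (_ : AddCommGroup M) (_ : Finite M)
        (φ : M →+ An.Cl.sect G A), A.p a = t ∧ IsConstVia G A φ := by
  constructor
  · rintro ⟨ι, A, hA, h⟩ t
    obtain ⟨i, a, ha⟩ := hA t
    obtain ⟨M, _, _, h⟩ := h i
    rw [nonempty_iso_iff] at h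
    obtain ⟨φ, hφ⟩ := h
    exact ⟨A i, a, M, inferInstance, inferInstance, φ, ha, hφ⟩
  · intro h
    choose A a M h1 h2 φ h3 h4 using h
    refine ⟨T, A, fun t => ⟨t, a t, h3 t⟩, fun t => ⟨M t, h1 t, h2 t, ?_⟩⟩
    rw [nonempty_iso_iff]
    exact ⟨φ t, h4 t⟩

end Groth.Agent.An.H885.ClConst
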