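import Groth.Agent.An.H885.EpsGerm
import Groth.Agent.An.H885.ClConst
import Groth.Agent.EtpbcA.FLC
import Groth.Agent.EtpbcA.EqLocus
import Groth.Agent.Etcore.Cover
import Groth.Agent.An.H868.Clopen
import Groth.Agent.An.H869.Conn
import Groth.Agent.Etcore.LocalIso

/-!
# The unit `F → ε_* ε^* F` for locally constant sheaves

* `isConstVia_eta`: if `F|_U` is constant with value `M` (any abelian group), so is `(ε^*F)|_{U(ℂ)}`;
* `eta_surjective_of_isConstVia`: local surjectivity of the unit where `F` is constant;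
* `isIso_unit`: the unit is an isomorphism for `F` locally constant (any values).
-/

set_option autoImplicit false
open CategoryTheory CategoryTheory.Limits AlgebraicGeometry TopologicalSpace Topology Opposite

noncomputable section

namespace Groth.Agent.An.H885.EpsUnit

open Groth.Agent.An.H885.ClPoint Groth.Agent.An.H885.ClConst Groth.Agent.An.H885.EpsGerm

variable (X : Scheme.{0}) [X.Over An.SC] [LocallyOfFiniteType (X ↘ An.SC)] [Fact An.EtaleLH]
  [An.EpsCont X] (F : EtCoh.Ab X)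

/-- If `F|_U` is constant with value `M` then so is `(ε^* F)|_{U(ℂ)}`. -/
theorem isConstVia_eta {U : X.Etale} {M : Type*} [AddCommGroup M] {φ : M →+ EtCoh.sect F U}
    (h : EtpbcA.FLC.IsConstVia F U φ) :
    IsConstVia ((An.epsPull X).obj F) ((An.eps X).obj U) ((eta X F U).comp φ) where
  inj B g b m hm := by
    obtain ⟨V, k, v, -, e⟩ := exists_res_eq X F (φ m) 0 g b (by
      rw [map_zero, map_zero]; exact hm)
    refine h.injective k v.pt (m' := 0) ?_
    rw [e, map_zero, map_zero, map_zero]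
  surj B g b s := by
    obtain ⟨U', r, C, k, c, x, hx, e⟩ := exists_eta X F s b
    obtain ⟨W, k₁, k₂, -⟩ := @IsCofilteredOrEmpty.cone_objs _ _
      (@IsCofiltered.toIsCofilteredOrEmpty _ _ (RepresentablyFlat.cofiltered (F := An.eps X) C))
      (StructuredArrow.mk c) (StructuredArrow.mk (k ≫ g))
    let τ : C ⟶ (An.eps X).obj W.right := W.hom
    let q₁ : W.right ⟶ U' := k₁.right
    let q₂ : W.right ⟶ U := k₂.right
    have hk₁ : τ ≫ (An.eps X).map q₁ = c := StructuredArrow.w k₁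
    have hk₂ : τ ≫ (An.eps X).map q₂ = k ≫ g := StructuredArrow.w k₂
    let w : An.Pts W.right.left := τ.toFun x
    obtain ⟨W', l, w', m, hw', hm⟩ := h.surjective q₂ w.pt (EtpbcA.Germ.res F q₁ r)
    obtain ⟨a, ha, -⟩ := exists_pts_lift X l w w' hw'
    let D := fibProd τ ((An.eps X).map l)
    let d : D.E := ⟨(x, a), ha.symm⟩
    have hD : fibFst τ ((An.eps X).map l) ≫ τ = fibSnd τ ((An.eps X).map l) ≫ (An.eps X).map l :=
      fib_condition _ _
    refine ⟨D, fibFst τ ((An.eps X).map l) ≫ k, d, m, hx, ?_⟩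
    have e1 : fibFst τ ((An.eps X).map l) ≫ c =
        fibSnd τ ((An.eps X).map l) ≫ (An.eps X).map (l ≫ q₁) := by
      rw [← hk₁, ← Category.assoc, hD, Category.assoc, Functor.map_comp]
    have e2 : (fibFst τ ((An.eps X).map l) ≫ k) ≫ g =
        fibSnd τ ((An.eps X).map l) ≫ (An.eps X).map (l ≫ q₂) := by
      rw [Category.assoc, ← hk₂, ← Category.assoc, hD, Category.assoc, Functor.map_comp]
    rw [res_comp, e, ← res_comp, e1, e2, res_comp, res_comp, res_eta]
    change _ = res _ _ (res _ _ (eta X F U (φ m)))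
    rw [res_eta]
    congr 2
    rw [EtpbcA.Germ.res_comp, hm]

/-- Locally constant sheaves (with arbitrary values). -/
def IsLC : Prop := ∀ x : X, ∃ (U : X.Etale) (u : U.left) (M : Type 1) (_ : AddCommGroup M)
  (φ : M →+ EtCoh.sect F U), U.hom u = x ∧ EtpbcA.FLC.IsConstVia F U φ

/-- Sections of `ε^* F` over `W(ℂ)` come, Zariski locally on `W`, from sections of `F` if `F|_W` is
constant. -/
theorem exists_open_eta {W : X.Etale} {M : Type*} [AddCommGroup M] {ψ : M →+ EtCoh.sect F W}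
    (h : EtpbcA.FLC.IsConstVia F W ψ) (s : An.Cl.sect ((An.epsPull X).obj F) ((An.eps X).obj W))
    (w : W.left) : ∃ (O : W.left.Opens) (m : M), w ∈ O ∧
      res ((An.epsPull X).obj F) ((An.eps X).map (EtpbcA.EqLocus.openι W O)) s =
        eta X F (EtpbcA.EqLocus.openSub W O)
          (EtpbcA.Germ.res F (EtpbcA.EqLocus.openι W O) (ψ m)) := by
  have hc := isConstVia_eta X F h
  -- the locus where `s = η (ψ m)`
  let S : M → Set (An.Pts W.left) := fun m => {a | ∃ (C : An.Cl (An.Pts X))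
    (k : C ⟶ (An.eps X).obj W) (c : C.E), k.toFun c = a ∧
      res ((An.epsPull X).obj F) k s = res ((An.epsPull X).obj F) k (eta X F W (ψ m))}
  have hSopen : ∀ m, IsOpen (S m) := by
    intro m
    rw [isOpen_iff_mem_nhds]
    rintro a ⟨C, k, c, rfl, hk⟩
    have h1 : IsOpenMap k.toFun := (isLocalHomeomorph_toFun k).isOpenMap
    refine Filter.mem_of_superset (h1.isOpen_range.mem_nhds ⟨c, rfl⟩) ?_
    rintro _ ⟨c', rfl⟩
    exact ⟨C, k, c', rfl, hk⟩
  have hScover : ∀ a, ∃ m, a ∈ S m := by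
    intro a
    obtain ⟨C, k, c, m, hk, e⟩ := hc.surj _ (𝟙 _) a s
    refine ⟨m, C, k, c, hk, ?_⟩
    rw [e, Category.comp_id]
    rfl
  have hSdisj : ∀ m m' a, a ∈ S m → a ∈ S m' → m = m' := by
    rintro m m' a ⟨C, k, c, rfl, hk⟩ ⟨C', k', c', hc', hk'⟩
    refine hc.injective (fibFst k k' ≫ k) (⟨(c, c'), hc'.symm⟩ : (fibProd k k').E) ?_
    change res _ _ (eta X F W (ψ m)) = res _ _ (eta X F W (ψ m'))
    rw [res_comp, ← hk, ← res_comp, fib_condition, res_comp, hk', ← res_comp]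
  have hSclopen : ∀ m, IsClopen (S m) := by
    intro m
    refine ⟨?_, hSopen m⟩
    have : (S m)ᶜ = ⋃ m' : {m' : M // m' ≠ m}, S m' := by
      ext a
      simp only [Set.mem_compl_iff, Set.mem_iUnion]
      constructor
      · intro ha
        obtain ⟨m', hm'⟩ := hScover a
        exact ⟨⟨m', fun e => ha (e ▸ hm')⟩, hm'⟩
      · rintro ⟨⟨m', hne⟩, hm'⟩ ha
        exact hne (hSdisj _ _ _ hm' ha)
    rw [← isOpen_compl_iff, this]
    exact isOpen_iUnion fun m' => hSopen m'
  -- a closed specialization of `w`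
  obtain ⟨x₀, hx₀⟩ := H863.PtsBasic.exists_pt_mem_of_isClosed (X := W.left)
    (Z := closure {w}) isClosed_closure ⟨w, subset_closure rfl⟩
  obtain ⟨m, hm⟩ := hScover x₀
  obtain ⟨Z, hZ, hSZ⟩ := H868.Clopen.exists_isClopen H869.Conn.conn (hSclopen m)
  have hwZ : w ∈ Z := by
    have h1 : w ⤳ x₀.pt := specializes_iff_mem_closure.2 hx₀
    refine h1.mem_open hZ.2 ?_
    rw [hSZ] at hm
    exact hm
  let O : W.left.Opens := ⟨Z, hZ.2⟩
  refine ⟨O, m, hwZ, ?_⟩
  rw [← res_eta]
  refine eq_of_forall_exists_map_eq _ _ _ fun a => ?_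
  let a' : An.Pts W.left := ((An.eps X).map (EtpbcA.EqLocus.openι W O)).toFun a
  have ha' : a' ∈ S m := by
    rw [hSZ]
    have h1 : a'.pt = (EtpbcA.EqLocus.openι W O).left (An.Pts.pt
      (X := (EtpbcA.EqLocus.openSub W O).left) a) := An.Pts.pt_map _ _
    change a'.pt ∈ Z
    rw [h1]
    have h2 := EtpbcA.EqLocus.range_openι W O
    have h3 : (EtpbcA.EqLocus.openι W O).left (An.Pts.pt
      (X := (EtpbcA.EqLocus.openSub W O).left) a) ∈ (O : Set W.left) := by
      rw [← h2]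
      exact ⟨_, rfl⟩
    exact h3
  obtain ⟨C, k, c, hk, e⟩ := ha'
  refine ⟨fibProd k ((An.eps X).map (EtpbcA.EqLocus.openι W O)), fibSnd _ _, ⟨(c, a), hk⟩, rfl, ?_⟩
  change res _ _ (res _ _ s) = res _ _ (res _ _ _)
  rw [← res_comp, ← res_comp, ← fib_condition, res_comp, res_comp, e]

/-- **The unit `F → ε_* ε^* F` is an isomorphism for `F` locally constant.** -/
theorem isIso_unit (hF : IsLC X F) : IsIso ((An.epsAdj X).unit.app F) := by
  refine Etcore.LocalIso.isIso_of_local _ (fun U s hs x => ⟨U, 𝟙 U, x, rfl, ?_⟩)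
    (fun U s u => ?_)
  · have h1 : s = 0 := eta_injective X F U (hs.trans (map_zero (eta X F U)).symm)
    rw [h1]
    exact map_zero (EtpbcA.Germ.res F (𝟙 U))
  · obtain ⟨V, v, M, _, φ, hv, hφ⟩ := hF (U.hom u)
    obtain ⟨W, a, b, w, ha, -⟩ := Etcore.Cover.exists_common U V u v hv.symm
    obtain ⟨O, m, hw, e⟩ := exists_open_eta X F (hφ.res b)
      (res ((An.epsPull X).obj F) ((An.eps X).map a) s) w
    have hw' : w ∈ Set.range (EtpbcA.EqLocus.openι W O).left := by
      rw [EtpbcA.EqLocus.range_openι]; exact hw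
    obtain ⟨o, ho⟩ := hw'
    refine ⟨EtpbcA.EqLocus.openSub W O, EtpbcA.EqLocus.openι W O ≫ a, o,
      EtpbcA.Germ.res F (EtpbcA.EqLocus.openι W O) ((EtpbcA.Germ.res F b).comp φ m), ?_, ?_⟩
    · rw [← ha, ← ho]
      rfl
    · refine e.symm.trans ?_
      rw [← res_comp, ← Functor.map_comp]
      rfl

/-- `ε^*` of a finite locally constant sheaf is finite locally constant. -/
theorem isFiniteLocallyConstant_epsPull (hF : EtCoh.IsFiniteLocallyConstant F) :
    An.Cl.IsFiniteLocallyConstant ((An.epsPull X).obj F) := by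
  rw [isFiniteLocallyConstant_iff]
  rw [EtpbcA.FLC.flc_iff] at hF
  intro t
  obtain ⟨U, u, M, _, _, φ, hu, hφ⟩ := hF t.pt
  obtain ⟨l, hl, -⟩ := Scheme.exists_fac_of_etale_of_isSepClosed (Ω := ℂ) (X := U.left) (S := X)
    U.hom t.1 u (hu.trans rfl)
  exact ⟨(An.eps X).obj U, ⟨l, by
    change l ≫ U.hom ≫ (X ↘ An.SC) = 𝟙 _
    rw [← Category.assoc, hl]
    exact t.2⟩, M, inferInstance, inferInstance, _, Subtype.ext hl, isConstVia_eta X F hφ⟩

omit [X.Over An.SC] [LocallyOfFiniteType (X ↘ An.SC)] [Fact An.EtaleLH] [An.EpsCont X] in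
theorem isLC_of_isFiniteLocallyConstant (hF : EtCoh.IsFiniteLocallyConstant F) : IsLC X F := by
  rw [EtpbcA.FLC.flc_iff] at hF
  intro x
  obtain ⟨U, u, M, _, _, φ, hu, hφ⟩ := hF x
  exact ⟨U, u, ULift.{1} M, inferInstance, φ.comp AddEquiv.ulift.toAddMonoidHom, hu,
    hφ.comp_equiv AddEquiv.ulift⟩

end Groth.Agent.An.H885.EpsUnit
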