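import Mathlib.Analysis.Calculus.FDeriv.Mul
import Mathlib.Analysis.Calculus.FDeriv.Add
import Mathlib.Analysis.Calculus.FDeriv.Congr
import Mathlib.Analysis.Complex.Basic
import Mathlib.Algebra.Polynomial.Div
import Mathlib.Algebra.Polynomial.Eval.Degree
import Mathlib.Topology.Algebra.Polynomial
import Mathlib.FieldTheory.Separable

/-!
# A continuous simple root of a polynomial with differentiable coefficients is differentiable
-/

set_option autoImplicit false

open Topology Filter

namespace Groth.Agent.An.H885.RootDiff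

/-- `f` differentiable at `x₀`, `f x₀ = 0`, `g` continuous at `x₀`: `f * g` is differentiable at `x₀`. -/
theorem differentiableAt_mul_of_continuousAt {V : Type*} [NormedAddCommGroup V] [NormedSpace ℂ V]
    {f g : V → ℂ} {x₀ : V} (hf : DifferentiableAt ℂ f x₀) (h0 : f x₀ = 0) (hg : ContinuousAt g x₀) :
    DifferentiableAt ℂ (fun x => f x * g x) x₀ := by
  have h1 : DifferentiableAt ℂ (fun x => f x * g x₀) x₀ := hf.mul_const _
  have h2 : HasFDerivAt (fun x => f x * (g x - g x₀)) (0 : V →L[ℂ] ℂ) x₀ := by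
    rw [hasFDerivAt_iff_isLittleO]
    simp only [h0, zero_mul, sub_zero, zero_apply]
    have h3 : (fun x => f x) =O[𝓝 x₀] fun x => ‖x - x₀‖ := by
      have := hf.isBigO_sub
      simp only [h0, sub_zero] at this
      exact this.norm_right
    have h4 : (fun x => g x - g x₀) =o[𝓝 x₀] fun _ => (1 : ℝ) := by
      rw [Asymptotics.isLittleO_one_iff]
      have h6 : Tendsto (fun x => g x - g x₀) (𝓝 x₀) (𝓝 (g x₀ - g x₀)) :=
        Tendsto.sub hg tendsto_const_nhds
      rwa [sub_self] at h6
    have h5 := h3.mul_isLittleO h4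
    simp only [mul_one] at h5
    exact h5.of_norm_right
  refine (h1.add h2.differentiableAt).congr_of_eventuallyEq (Eventually.of_forall fun x => ?_)
  simp only [Pi.add_apply]
  ring

theorem differentiableAt_of_root {V : Type*} [NormedAddCommGroup V] [NormedSpace ℂ V] (m : ℕ)
    (P : V → Polynomial ℂ) (x₀ : V) (_hm : ∀ x, (P x).Monic) (hd : ∀ x, (P x).natDegree = m)
    (hc : ∀ i, DifferentiableAt ℂ (fun x => (P x).coeff i) x₀) (G : V → ℂ)
    (hG : ContinuousAt G x₀) (hr : ∀ᶠ x in 𝓝 x₀, (P x).eval (G x) = 0)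
    (hs : (P x₀).Separable) : DifferentiableAt ℂ G x₀ := by
  have hr0 : (P x₀).eval (G x₀) = 0 := hr.self_of_nhds
  obtain ⟨Q, hQ⟩ : ∃ Q : Polynomial ℂ, P x₀ = (Polynomial.X - Polynomial.C (G x₀)) * Q :=
    Polynomial.dvd_iff_isRoot.2 hr0
  have hQ0 : Q.eval (G x₀) ≠ 0 := by
    intro h
    obtain ⟨a, b, hab⟩ := hs
    have h1 := congrArg (Polynomial.eval (G x₀)) hab
    rw [hQ, Polynomial.derivative_mul] at h1
    simp [h] at h1
  -- the difference quotient
  let A : V → ℂ := fun x => ∑ i ∈ Finset.range (m + 1), ((P x).coeff i - (P x₀).coeff i) * (G x ^ i * (Q.eval (G x))⁻¹)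
  have hA : DifferentiableAt ℂ A x₀ := by
    refine DifferentiableAt.fun_sum fun i _ => ?_
    refine differentiableAt_mul_of_continuousAt ((hc i).sub_const _) (sub_self _) ?_
    refine (hG.pow i).mul (ContinuousAt.inv₀ ?_ hQ0)
    exact Q.continuous.continuousAt.comp hG
  have hev : ∀ᶠ x in 𝓝 x₀, Q.eval (G x) ≠ 0 :=
    (Q.continuous.continuousAt.comp hG).eventually_ne hQ0
  refine ((differentiableAt_const (G x₀)).sub hA).congr_of_eventuallyEq ?_
  filter_upwards [hr, hev] with x hx hx'
  have e1 : ∀ y, (P y).eval (G x) = ∑ i ∈ Finset.range (m + 1), (P y).coeff i * G x ^ i := by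
    intro y
    rw [Polynomial.eval_eq_sum_range, hd]
  have e2 : (P x₀).eval (G x) = (G x - G x₀) * Q.eval (G x) := by
    rw [hQ]
    simp
  have e3 : A x * Q.eval (G x) = - ((G x - G x₀) * Q.eval (G x)) := by
    simp only [A]
    rw [Finset.sum_mul]
    have : ∀ i ∈ Finset.range (m + 1), ((P x).coeff i - (P x₀).coeff i) * (G x ^ i * (Q.eval (G x))⁻¹) *
        Q.eval (G x) = (P x).coeff i * G x ^ i - (P x₀).coeff i * G x ^ i := by
      intro i _
      field_simp
    rw [Finset.sum_congr rfl this, Finset.sum_sub_distrib, ← e1, ← e1, hx, e2]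
    ring
  simp only [Pi.sub_apply]
  have e4 : (G x - (G x₀ - A x)) * Q.eval (G x) = 0 := by
    linear_combination e3
  exact sub_eq_zero.1 ((mul_eq_zero.1 e4).resolve_right hx')

end Groth.Agent.An.H885.RootDiff
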