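import Groth.Agent.An.H880.FamPts
import Groth.Agent.An.H885.RootDiff
import Groth.Agent.An.H934.Sym
import Groth.Agent.An.H869.LocalRoots

/-!
# The average of a root function over a multisection of the parameter space
-/

set_option autoImplicit false

namespace Groth.Agent.An.H885.Average

open MvPolynomial Topology Filter Groth.Agent.An.H880.Fam Groth.Agent.An.H880.CoreDef
open Groth.Agent.An.H869.LocalRoots

variable {n : ℕ} {E : Type}

/-- the average of `H` over the roots of `μ` -/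
noncomputable def av (p : E → (Fin (n + 1) → ℂ)) (μ : Polynomial (MvPolynomial (Fin n) ℂ))
    (H : E × ℂ → ℂ) (e : E) : ℂ :=
  (μ.natDegree : ℂ)⁻¹ * ∑ θ ∈ (μ.map (eval (Fin.tail (p e)))).roots.toFinset, H (e, θ)

/-- the polynomial of the family at `x`, with parameter `θ` -/
noncomputable def fp (m N : ℕ) (q₂ : MvPolynomial (Fin n) ℂ)
    (gc : Fin (m * (N + 1)) → Polynomial (MvPolynomial (Fin n) ℂ)) (ec : Fin (m * (N + 1)) → ℕ)
    (x : Fin (n + 1) → ℂ) (θ : ℂ) : Polynomial ℂ :=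
  (fam m N fun j => F (gc j) (Fin.tail x, θ) / eval (Fin.tail x) q₂ ^ ec j).map
    (Polynomial.evalRingHom (x 0))

lemma mem_roots_iff (μ : Polynomial (MvPolynomial (Fin n) ℂ)) (hμ : μ.Monic) (b : Fin n → ℂ) (t : ℂ) :
    t ∈ (μ.map (eval b)).roots.toFinset ↔ F μ (b, t) = 0 := by
  rw [Multiset.mem_toFinset, Polynomial.mem_roots (hμ.map _).ne_zero]
  rfl

lemma continuous_tail : Continuous (Fin.tail : (Fin (n + 1) → ℂ) → (Fin n → ℂ)) :=
  continuous_pi fun _ => continuous_apply _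

lemma differentiable_tail : Differentiable ℂ (fun x : Fin (n + 1) → ℂ => (Fin.tail x : Fin n → ℂ)) :=
  differentiable_pi.2 fun _ => differentiable_apply _

variable [TopologicalSpace E]

theorem exists_local (p : E → (Fin (n + 1) → ℂ)) (q₂ : MvPolynomial (Fin n) ℂ)
    (μ : Polynomial (MvPolynomial (Fin n) ℂ)) (hμ : μ.Monic)
    (hμs : ∀ b, eval b q₂ ≠ 0 → (μ.map (eval b)).Separable)
    (q₃ : MvPolynomial (Fin (n + 1)) ℂ)
    (h32 : ∀ x : Fin (n + 1) → ℂ, eval x q₃ ≠ 0 → eval (Fin.tail x) q₂ ≠ 0)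
    (H : E × ℂ → ℂ)
    (hHc : ContinuousOn H {w : E × ℂ | eval (p w.1) q₃ ≠ 0 ∧ F μ (Fin.tail (p w.1), w.2) = 0})
    (e₀ : E) (he₀ : eval (p e₀) q₃ ≠ 0) (hpc : ContinuousAt p e₀) :
    ∃ τ : ℂ → (Fin n → ℂ) → ℂ,
      (∀ t ∈ (μ.map (eval (Fin.tail (p e₀)))).roots.toFinset,
        DifferentiableAt ℂ (τ t) (Fin.tail (p e₀)) ∧ τ t (Fin.tail (p e₀)) = t ∧
        (∀ᶠ b in 𝓝 (Fin.tail (p e₀)), F μ (b, τ t b) = 0) ∧
        ContinuousAt (fun e => H (e, τ t (Fin.tail (p e)))) e₀) ∧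
      (av p μ H =ᶠ[𝓝 e₀] fun e => (μ.natDegree : ℂ)⁻¹ *
        ∑ t ∈ (μ.map (eval (Fin.tail (p e₀)))).roots.toFinset, H (e, τ t (Fin.tail (p e)))) := by
  classical
  have hq2 : eval (Fin.tail (p e₀)) q₂ ≠ 0 := h32 _ he₀
  have hsep : ∀ᶠ b in 𝓝 (Fin.tail (p e₀)), (μ.map (eval b)).Separable := by
    have h1 : ∀ᶠ b in 𝓝 (Fin.tail (p e₀)), eval b q₂ ≠ 0 :=
      (MvPolynomial.continuous_eval q₂).continuousAt.eventually_ne hq2
    filter_upwards [h1] with b hb using hμs b hb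
  obtain ⟨τ, hτ, hev⟩ := exists_local_roots μ hμ _ hsep
  have htail : Tendsto (fun e => (Fin.tail (p e) : Fin n → ℂ)) (𝓝 e₀) (𝓝 (Fin.tail (p e₀))) :=
    (continuous_tail.continuousAt (x := p e₀)).comp hpc
  have hroot : ∀ t ∈ (μ.map (eval (Fin.tail (p e₀)))).roots.toFinset,
      ∀ᶠ b in 𝓝 (Fin.tail (p e₀)), F μ (b, τ t b) = 0 := by
    intro t ht
    filter_upwards [hev] with b hb
    rw [← mem_roots_iff μ hμ, hb.2]
    exact Finset.mem_image_of_mem (fun t => τ t b) ht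
  refine ⟨τ, fun t ht => ⟨(hτ t ht).1, (hτ t ht).2, hroot t ht, ?_⟩, ?_⟩
  · have h0 : F μ (Fin.tail (p e₀), t) = 0 := (mem_roots_iff μ hμ _ _).1 ht
    have h1 : ContinuousWithinAt H {w : E × ℂ | eval (p w.1) q₃ ≠ 0 ∧ F μ (Fin.tail (p w.1), w.2) = 0}
        (e₀, t) := hHc _ ⟨he₀, h0⟩
    have h2 : Tendsto (fun e => (e, τ t (Fin.tail (p e)))) (𝓝 e₀) (𝓝 (e₀, t)) := by
      have h3 : Tendsto (fun e => τ t (Fin.tail (p e))) (𝓝 e₀) (𝓝 (τ t (Fin.tail (p e₀)))) :=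
        (hτ t ht).1.continuousAt.tendsto.comp htail
      rw [(hτ t ht).2] at h3
      exact tendsto_id.prodMk_nhds h3
    have h4 : ∀ᶠ e in 𝓝 e₀, (e, τ t (Fin.tail (p e))) ∈
        {w : E × ℂ | eval (p w.1) q₃ ≠ 0 ∧ F μ (Fin.tail (p w.1), w.2) = 0} := by
      have h5 : ∀ᶠ e in 𝓝 e₀, eval (p e) q₃ ≠ 0 :=
        ((MvPolynomial.continuous_eval q₃).continuousAt.comp hpc).eventually_ne he₀
      filter_upwards [h5, htail.eventually (hroot t ht)] with e h6 h7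
      exact ⟨h6, h7⟩
    have h8 : Tendsto (fun e => (e, τ t (Fin.tail (p e)))) (𝓝 e₀)
        (𝓝[{w : E × ℂ | eval (p w.1) q₃ ≠ 0 ∧ F μ (Fin.tail (p w.1), w.2) = 0}] (e₀, t)) :=
      tendsto_nhdsWithin_iff.2 ⟨h2, h4⟩
    have h9 := h1.tendsto.comp h8
    change Tendsto _ _ (𝓝 (H (e₀, τ t (Fin.tail (p e₀)))))
    rw [(hτ t ht).2]
    exact h9
  · filter_upwards [htail.eventually hev] with e he
    unfold av
    rw [he.2, Finset.sum_image he.1]

theorem continuousAt_av (p : E → (Fin (n + 1) → ℂ)) (q₂ : MvPolynomial (Fin n) ℂ)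
    (μ : Polynomial (MvPolynomial (Fin n) ℂ)) (hμ : μ.Monic)
    (hμs : ∀ b, eval b q₂ ≠ 0 → (μ.map (eval b)).Separable)
    (q₃ : MvPolynomial (Fin (n + 1)) ℂ)
    (h32 : ∀ x : Fin (n + 1) → ℂ, eval x q₃ ≠ 0 → eval (Fin.tail x) q₂ ≠ 0)
    (H : E × ℂ → ℂ)
    (hHc : ContinuousOn H {w : E × ℂ | eval (p w.1) q₃ ≠ 0 ∧ F μ (Fin.tail (p w.1), w.2) = 0})
    (e₀ : E) (he₀ : eval (p e₀) q₃ ≠ 0) (hpc : ContinuousAt p e₀) :
    ContinuousAt (av p μ H) e₀ := by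
  obtain ⟨τ, hτ, hev⟩ := exists_local p q₂ μ hμ hμs q₃ h32 H hHc e₀ he₀ hpc
  refine ContinuousAt.congr ?_ hev.symm
  refine continuousAt_const.mul ?_
  exact tendsto_finsetSum _ fun t ht => (hτ t ht).2.2.2

/-- coefficients of `fp` along a root are differentiable -/
lemma differentiableAt_coeff_fp (m N : ℕ) (q₂ : MvPolynomial (Fin n) ℂ)
    (gc : Fin (m * (N + 1)) → Polynomial (MvPolynomial (Fin n) ℂ)) (ec : Fin (m * (N + 1)) → ℕ)
    (τ : (Fin n → ℂ) → ℂ) (x₀ : Fin (n + 1) → ℂ) (hq : eval (Fin.tail x₀) q₂ ≠ 0)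
    (hτ : DifferentiableAt ℂ τ (Fin.tail x₀)) (k : ℕ) :
    DifferentiableAt ℂ (fun x => (fp m N q₂ gc ec x (τ (Fin.tail x))).coeff k) x₀ := by
  unfold fp
  simp only [H880.FamPts.coeff_fam_map]
  have hτ' : DifferentiableAt ℂ (fun x => τ (Fin.tail x)) x₀ := hτ.comp x₀ (differentiable_tail x₀)
  have hj : ∀ j, DifferentiableAt ℂ (fun x : Fin (n + 1) → ℂ =>
      F (gc j) (Fin.tail x, τ (Fin.tail x)) / eval (Fin.tail x) q₂ ^ ec j) x₀ := by
    intro j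
    have h1 : DifferentiableAt ℂ (F (gc j)) (Fin.tail x₀, τ (Fin.tail x₀)) :=
      (analyticAt_F (gc j) _).differentiableAt
    have h2 : DifferentiableAt ℂ (fun b : Fin n → ℂ => eval b q₂) (Fin.tail x₀) :=
      H934.Sym.differentiable_eval q₂ _
    have h3 : DifferentiableAt ℂ (fun x : Fin (n + 1) → ℂ => F (gc j) (Fin.tail x, τ (Fin.tail x))) x₀ :=
      DifferentiableAt.comp (g := F (gc j))
        (f := fun x : Fin (n + 1) → ℂ => ((Fin.tail x : Fin n → ℂ), τ (Fin.tail x))) x₀ h1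
        ((differentiable_tail x₀).prodMk hτ')
    have h4 : DifferentiableAt ℂ (fun x : Fin (n + 1) → ℂ => eval (Fin.tail x) q₂ ^ ec j) x₀ :=
      (h2.comp x₀ (differentiable_tail x₀)).pow _
    simp only [div_eq_mul_inv]
    exact h3.mul (h4.fun_inv (pow_ne_zero _ hq))
  refine DifferentiableAt.add (differentiableAt_const _) ?_
  refine DifferentiableAt.fun_sum fun i _ => ?_
  refine DifferentiableAt.mul_const ?_ _
  refine DifferentiableAt.fun_sum fun l _ => ?_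
  exact (hj _).mul ((differentiableAt_apply 0 x₀).pow _)

theorem differentiableAt_av (p : E → (Fin (n + 1) → ℂ)) (m N : ℕ) (q₂ : MvPolynomial (Fin n) ℂ)
    (μ : Polynomial (MvPolynomial (Fin n) ℂ)) (hμ : μ.Monic)
    (hμs : ∀ b, eval b q₂ ≠ 0 → (μ.map (eval b)).Separable)
    (q₃ : MvPolynomial (Fin (n + 1)) ℂ)
    (h32 : ∀ x : Fin (n + 1) → ℂ, eval x q₃ ≠ 0 → eval (Fin.tail x) q₂ ≠ 0)
    (gc : Fin (m * (N + 1)) → Polynomial (MvPolynomial (Fin n) ℂ)) (ec : Fin (m * (N + 1)) → ℕ)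
    (H : E × ℂ → ℂ)
    (hHc : ContinuousOn H {w : E × ℂ | eval (p w.1) q₃ ≠ 0 ∧ F μ (Fin.tail (p w.1), w.2) = 0})
    (hHs : ∀ w : E × ℂ, eval (p w.1) q₃ ≠ 0 → F μ (Fin.tail (p w.1), w.2) = 0 →
      (fp m N q₂ gc ec (p w.1) w.2).Separable)
    (hHr : ∀ w : E × ℂ, eval (p w.1) q₃ ≠ 0 → F μ (Fin.tail (p w.1), w.2) = 0 →
      (fp m N q₂ gc ec (p w.1) w.2).eval (H w) = 0)
    (e₀ : E) (he₀ : eval (p e₀) q₃ ≠ 0) (hpc : ContinuousAt p e₀)
    (σ : (Fin (n + 1) → ℂ) → E) (hσ : ContinuousAt σ (p e₀)) (hσ0 : σ (p e₀) = e₀)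
    (hσp : ∀ᶠ x in 𝓝 (p e₀), p (σ x) = x) :
    DifferentiableAt ℂ (av p μ H ∘ σ) (p e₀) := by
  obtain ⟨τ, hτ, hev⟩ := exists_local p q₂ μ hμ hμs q₃ h32 H hHc e₀ he₀ hpc
  have hσt : Tendsto σ (𝓝 (p e₀)) (𝓝 e₀) := by
    have := hσ.tendsto
    rwa [hσ0] at this
  have hev' := hσt.eventually hev
  refine DifferentiableAt.congr_of_eventuallyEq (f := fun x => (μ.natDegree : ℂ)⁻¹ *
        ∑ t ∈ (μ.map (eval (Fin.tail (p e₀)))).roots.toFinset, H (σ x, τ t (Fin.tail (p (σ x))))) ?_ hev'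
  refine DifferentiableAt.const_mul ?_ _
  refine DifferentiableAt.fun_sum fun t ht => ?_
  obtain ⟨h1, h2, h3, h4⟩ := hτ t ht
  have htail : Tendsto (fun x : Fin (n + 1) → ℂ => (Fin.tail x : Fin n → ℂ)) (𝓝 (p e₀))
      (𝓝 (Fin.tail (p e₀))) := continuous_tail.continuousAt
  refine RootDiff.differentiableAt_of_root m (fun x => fp m N q₂ gc ec x (τ t (Fin.tail x))) (p e₀)
    (fun x => (monic_fam _).map _)
    (fun x => by
      unfold fp
      rw [(monic_fam _).natDegree_map, natDegree_fam])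
    (fun k => differentiableAt_coeff_fp m N q₂ gc ec (τ t) (p e₀) (h32 _ he₀) h1 k) _ ?_ ?_ ?_
  · have h5 : ContinuousAt (fun e => H (e, τ t (Fin.tail (p e)))) (σ (p e₀)) := by rwa [hσ0]
    exact ContinuousAt.comp (f := σ) h5 hσ
  · have h6 : ∀ᶠ x in 𝓝 (p e₀), eval x q₃ ≠ 0 :=
      (MvPolynomial.continuous_eval q₃).continuousAt.eventually_ne he₀
    filter_upwards [hσp, h6, htail.eventually h3] with x hx1 hx2 hx3
    have h7 := hHr (σ x, τ t (Fin.tail x)) (by simp only; rw [hx1]; exact hx2)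
      (by simp only; rw [hx1]; exact hx3)
    simp only [hx1] at h7 ⊢
    exact h7
  · have h8 := hHs (e₀, t) he₀ ((mem_roots_iff μ hμ _ _).1 ht)
    simp only at h8 ⊢
    rw [h2]
    exact h8

end Groth.Agent.An.H885.Average
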