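import Groth.Agent.An.H880.FamPts
import Groth.Agent.An.H885.Average
import Groth.Agent.An.H869.PolyGrowth

/-!
# Growth of the roots of the family of polynomials
-/

set_option autoImplicit false

namespace Groth.Agent.An.H885.RootGrowth

open MvPolynomial Groth.Agent.An.H880.Fam Groth.Agent.An.H869.LocalRoots
open Groth.Agent.An.H869.PolyGrowth Groth.Agent.An.H885.Average

variable {n : ℕ}

/-- a root of a monic polynomial of degree `m`, with bounded coefficients -/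
lemma norm_root_le (P : Polynomial ℂ) (hP : P.Monic) (h : ℂ) (hr : P.eval h = 0) :
    ‖h‖ ≤ 1 + ∑ k ∈ Finset.range P.natDegree, ‖P.coeff k‖ := by
  classical
  have h2 := Polynomial.IsRoot.norm_lt_cauchyBound hP.ne_zero (a := h) hr
  have h3 : (P.cauchyBound : ℝ) ≤ (∑ i ∈ Finset.range P.natDegree, ‖P.coeff i‖) + 1 := by
    rw [Polynomial.cauchyBound, hP.leadingCoeff]
    simp only [nnnorm_one, div_one, NNReal.coe_add, NNReal.coe_one]
    refine add_le_add ?_ le_rfl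
    have h4 : (Finset.range P.natDegree).sup (fun i => ‖P.coeff i‖₊) ≤
        ∑ i ∈ Finset.range P.natDegree, ‖P.coeff i‖₊ :=
      Finset.sup_le fun i hi => Finset.single_le_sum (f := fun i => ‖P.coeff i‖₊)
        (fun _ _ => zero_le) hi
    calc (((Finset.range P.natDegree).sup (fun i => ‖P.coeff i‖₊) : NNReal) : ℝ)
        ≤ ((∑ i ∈ Finset.range P.natDegree, ‖P.coeff i‖₊ : NNReal) : ℝ) := by
          exact_mod_cast h4
      _ = _ := by simp
  have h6 : ‖h‖ < (P.cauchyBound : ℝ) := by exact_mod_cast h2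
  linarith

/-- see the header. -/
theorem growth (n m N : ℕ) (q₂ : MvPolynomial (Fin n) ℂ)
    (μ : Polynomial (MvPolynomial (Fin n) ℂ)) (hμ : μ.Monic)
    (gc : Fin (m * (N + 1)) → Polynomial (MvPolynomial (Fin n) ℂ)) (ec : Fin (m * (N + 1)) → ℕ) :
    ∃ (K : ℝ) (M N' : ℕ), ∀ (x : Fin (n + 1) → ℂ) (θ h : ℂ), eval (Fin.tail x) q₂ ≠ 0 →
      F μ (Fin.tail x, θ) = 0 → (fp m N q₂ gc ec x θ).eval h = 0 →
      ‖h‖ * ‖eval (Fin.tail x) q₂‖ ^ M ≤ K * (1 + ‖x‖) ^ N' := by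
  classical
  -- the type of all the data
  let α : Type := {w : (Fin (n + 1) → ℂ) × ℂ // eval (Fin.tail w.1) q₂ ≠ 0 ∧ F μ (Fin.tail w.1, w.2) = 0}
  let b : α → ℝ := fun w => 1 + ‖w.1.1‖
  have hb : ∀ w, 1 ≤ b w := fun w => by
    have := norm_nonneg w.1.1
    simp only [b]
    linarith
  have htl : ∀ x : Fin (n + 1) → ℂ, ‖(Fin.tail x : Fin n → ℂ)‖ ≤ ‖x‖ := fun x =>
    (pi_norm_le_iff_of_nonneg (norm_nonneg _)).2 fun i => norm_le_pi_norm x i.succ
  -- polynomial growth with respect to the tail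
  have hlift : ∀ f : α → ℂ, PG (fun w : α => 1 + ‖(Fin.tail w.1.1 : Fin n → ℂ)‖) f → PG b f := by
    rintro f ⟨K, M, hK, h⟩
    refine ⟨K, M, hK, fun w => (h w).trans ?_⟩
    have h1 := htl w.1.1
    have h2 := norm_nonneg (Fin.tail w.1.1 : Fin n → ℂ)
    simp only [b]
    gcongr
  have hq : PG b fun w : α => eval (Fin.tail w.1.1) q₂ := hlift _ (pg_eval (fun w : α => Fin.tail w.1.1) q₂)
  have hg : ∀ j, PG b fun w : α => F (gc j) (Fin.tail w.1.1, w.1.2) := fun j =>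
    hlift _ (pg_eval_root (fun w : α => Fin.tail w.1.1) (fun w => w.1.2) μ hμ (fun w => w.2.2) (gc j))
  have hx0 : PG b fun w : α => w.1.1 0 := by
    refine ⟨1, 1, zero_le_one, fun w => ?_⟩
    have h1 := norm_le_pi_norm w.1.1 0
    simp only [b, one_mul, pow_one]
    linarith
  let M : ℕ := ∑ j, ec j
  have hle : ∀ j, ec j ≤ M := fun j => Finset.single_le_sum (f := ec) (fun _ _ => Nat.zero_le _) (Finset.mem_univ j)
  have hc : ∀ j, PG b fun w : α => eval (Fin.tail w.1.1) q₂ ^ M *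
      (F (gc j) (Fin.tail w.1.1, w.1.2) / eval (Fin.tail w.1.1) q₂ ^ ec j) := by
    intro j
    refine ((hq.pow hb (M - ec j)).mul hb (hg j)).mono fun w => le_of_eq ?_
    congr 1
    have h1 : eval (Fin.tail w.1.1) q₂ ^ M = eval (Fin.tail w.1.1) q₂ ^ (M - ec j) *
        eval (Fin.tail w.1.1) q₂ ^ ec j := by
      rw [← pow_add, Nat.sub_add_cancel (hle j)]
    have h2 := pow_ne_zero (ec j) w.2.1
    rw [h1]
    field_simp
  have hcoef : ∀ k, PG b fun w : α => eval (Fin.tail w.1.1) q₂ ^ M * (fp m N q₂ gc ec w.1.1 w.1.2).coeff k := by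
    intro k
    have e1 : (fun w : α => eval (Fin.tail w.1.1) q₂ ^ M * (fp m N q₂ gc ec w.1.1 w.1.2).coeff k) =
        fun w : α => eval (Fin.tail w.1.1) q₂ ^ M * (if k = m then 1 else 0) +
          ∑ i : Fin m, (∑ l : Fin (N + 1), (eval (Fin.tail w.1.1) q₂ ^ M *
            (F (gc (finProdFinEquiv (i, l))) (Fin.tail w.1.1, w.1.2) /
              eval (Fin.tail w.1.1) q₂ ^ ec (finProdFinEquiv (i, l)))) * w.1.1 0 ^ (l : ℕ)) *
            (if k = i then 1 else 0) := by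
      funext w
      unfold fp
      rw [H880.FamPts.coeff_fam_map, mul_add, Finset.mul_sum]
      congr 1
      refine Finset.sum_congr rfl fun i _ => ?_
      rw [← mul_assoc, Finset.mul_sum]
      simp only [mul_assoc]
    rw [e1]
    refine ((hq.pow hb M).mul hb (PG.const _)).add hb ?_
    refine PG.sum hb _ fun i _ => ?_
    refine PG.mul hb ?_ (PG.const _)
    exact PG.sum hb _ fun l _ => (hc _).mul hb (hx0.pow hb _)
  -- conclusion
  have hfin : PG b fun w : α => (‖eval (Fin.tail w.1.1) q₂ ^ M‖ : ℂ) +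
      ∑ k ∈ Finset.range m, (‖eval (Fin.tail w.1.1) q₂ ^ M * (fp m N q₂ gc ec w.1.1 w.1.2).coeff k‖ : ℂ) := by
    refine PG.add hb ((hq.pow hb M).mono fun w => by simp) (PG.sum hb _ fun k _ => (hcoef k).mono fun w => by simp)
  obtain ⟨K, N', hK, h⟩ := hfin
  refine ⟨K, M, N', fun x θ t hx hθ ht => ?_⟩
  have h1 := h ⟨(x, θ), hx, hθ⟩
  have hmon : (fp m N q₂ gc ec x θ).Monic := (monic_fam _).map _
  have hdeg : (fp m N q₂ gc ec x θ).natDegree = m := by
    unfold fp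
    rw [(monic_fam _).natDegree_map, natDegree_fam]
  have h2 := norm_root_le _ hmon t ht
  rw [hdeg] at h2
  refine le_trans ?_ h1
  simp only
  have h3 : ((‖eval (Fin.tail x) q₂ ^ M‖ : ℂ) + ∑ k ∈ Finset.range m,
      (‖eval (Fin.tail x) q₂ ^ M * (fp m N q₂ gc ec x θ).coeff k‖ : ℂ)) =
      ((‖eval (Fin.tail x) q₂ ^ M‖ + ∑ k ∈ Finset.range m,
      ‖eval (Fin.tail x) q₂ ^ M * (fp m N q₂ gc ec x θ).coeff k‖ : ℝ) : ℂ) := by
    push_cast
    rfl
  rw [h3, Complex.norm_real, Real.norm_of_nonneg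
    (add_nonneg (norm_nonneg _) (Finset.sum_nonneg fun _ _ => norm_nonneg _))]
  have h4 : ‖t‖ * ‖eval (Fin.tail x) q₂‖ ^ M ≤ (1 + ∑ k ∈ Finset.range m, ‖(fp m N q₂ gc ec x θ).coeff k‖) *
      ‖eval (Fin.tail x) q₂‖ ^ M := mul_le_mul_of_nonneg_right h2 (by positivity)
  refine h4.trans (le_of_eq ?_)
  rw [add_mul, one_mul, norm_pow, Finset.sum_mul]
  congr 1
  refine Finset.sum_congr rfl fun k _ => ?_
  rw [norm_mul, norm_pow, mul_comm]

end Groth.Agent.An.H885.RootGrowth
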