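import Groth.Agent.An.H880.CoreMain
import Groth.Agent.An.H885.Average
import Groth.Agent.An.H885.RootGrowth
import Groth.Agent.An.H934.Charpoly
import Groth.Agent.An.H520.Sym2
import Groth.Agent.An.H869.PolyGrowth
import Groth.Agent.An.H869.LocalRoots

/-!
# (P3): from the root functions `H` to the core statement
-/

set_option autoImplicit false

namespace Groth.Agent.An.H885.CoreOfH

open MvPolynomial Topology Filter Groth.Agent.An.H880.Fam Groth.Agent.An.H880.CoreDef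
open Groth.Agent.An.H869.LocalRoots Groth.Agent.An.H885.Average

/-- restriction of a covering to an open subset -/
theorem isCoveringMapOn_subtype {X E : Type} [TopologicalSpace X] [TopologicalSpace E] (p : E → X)
    {s t : Set X} (hp : IsCoveringMapOn p s) (hts : t ⊆ s) (ht : IsOpen t) :
    IsCoveringMapOn (fun e : (p ⁻¹' t : Set E) => p e.1) t := by
  have h1 : IsCoveringMap (t.restrictPreimage p) := (hp.mono hts).isCoveringMap_restrictPreimage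
  exact IsCoveringMapOn.of_isCoveringMap_subtype ht (fun e => e.2) h1

theorem core_of_H (n : ℕ) (q : MvPolynomial (Fin (n + 1)) ℂ) (hq : q ≠ 0) (E : Type)
    [TopologicalSpace E] (p : E → (Fin (n + 1) → ℂ))
    (hcov : IsCoveringMapOn p {x | eval x q ≠ 0}) (hpq : ∀ e, eval (p e) q ≠ 0)
    (hfin : ∀ x, (p ⁻¹' {x}).Finite) (z₀ : ℂ) (m N : ℕ) (q₂ : MvPolynomial (Fin n) ℂ)
    (hq₂ : q₂ ≠ 0) (hq0 : ∀ b, eval b q₂ ≠ 0 → eval (Fin.cons z₀ b : Fin (n + 1) → ℂ) q ≠ 0)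
    (hm : ∀ b, eval b q₂ ≠ 0 → (hfin (Fin.cons z₀ b)).toFinset.card = m)
    (s : E → ℂ) (hs : ∀ b, eval b q₂ ≠ 0 → Set.InjOn s (p ⁻¹' {Fin.cons z₀ b}))
    (μ : Polynomial (MvPolynomial (Fin n) ℂ)) (hμ : μ.Monic) (hμ0 : μ.natDegree ≠ 0)
    (hμs : ∀ b, eval b q₂ ≠ 0 → (μ.map (eval b)).Separable)
    (q₃ : MvPolynomial (Fin (n + 1)) ℂ)
    (h30 : ∀ b, eval b q₂ ≠ 0 → eval (Fin.cons z₀ b : Fin (n + 1) → ℂ) q₃ ≠ 0)
    (h32 : ∀ x : Fin (n + 1) → ℂ, eval x q₃ ≠ 0 → eval (Fin.tail x) q₂ ≠ 0)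
    (gc : Fin (m * (N + 1)) → Polynomial (MvPolynomial (Fin n) ℂ)) (ec : Fin (m * (N + 1)) → ℕ)
    (H : E × ℂ → ℂ)
    (hHc : ContinuousOn H {w : E × ℂ | eval (p w.1) q₃ ≠ 0 ∧ F μ (Fin.tail (p w.1), w.2) = 0})
    (hHs : ∀ w : E × ℂ, eval (p w.1) q₃ ≠ 0 → F μ (Fin.tail (p w.1), w.2) = 0 →
      ((fam m N fun j => F (gc j) (Fin.tail (p w.1), w.2) / eval (Fin.tail (p w.1)) q₂ ^ ec j).map
        (Polynomial.evalRingHom (p w.1 0))).Separable)
    (hHr : ∀ w : E × ℂ, eval (p w.1) q₃ ≠ 0 → F μ (Fin.tail (p w.1), w.2) = 0 →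
      ((fam m N fun j => F (gc j) (Fin.tail (p w.1), w.2) / eval (Fin.tail (p w.1)) q₂ ^ ec j).map
        (Polynomial.evalRingHom (p w.1 0))).eval (H w) = 0)
    (hH0 : ∀ w : E × ℂ, eval (p w.1) q₃ ≠ 0 → F μ (Fin.tail (p w.1), w.2) = 0 →
      p w.1 0 = z₀ → H w = s w.1) :
    ∃ (q' : MvPolynomial (Fin (n + 1)) ℂ) (f : Polynomial (MvPolynomial (Fin (n + 1)) ℂ))
      (F : E → ℂ), q' ≠ 0 ∧ q ∣ q' ∧ f.Monic ∧ ContinuousOn F {e | eval (p e) q' ≠ 0} ∧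
      ∀ x, eval x q' ≠ 0 → (f.map (eval x)).Separable ∧
        f.map (eval x) = ∏ e ∈ (hfin x).toFinset, (Polynomial.X - Polynomial.C (F e)) := by
  classical
  -- a point of the base
  obtain ⟨b₀, hb₀⟩ : ∃ b : Fin n → ℂ, eval b q₂ ≠ 0 := by
    by_contra h
    push Not at h
    exact hq₂ (MvPolynomial.funext fun b => by rw [h b, map_zero])
  let x₀ : Fin (n + 1) → ℂ := Fin.cons z₀ b₀
  have hx₀t : Fin.tail x₀ = b₀ := Fin.tail_cons _ _
  let q₂' : MvPolynomial (Fin (n + 1)) ℂ := rename Fin.succ q₂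
  have hq₂' : ∀ x : Fin (n + 1) → ℂ, eval x q₂' = eval (Fin.tail x) q₂ := by
    intro x
    rw [eval_rename]
    rfl
  let D : MvPolynomial (Fin (n + 1)) ℂ := q * q₃ * q₂'
  have hDiff : ∀ x, eval x D ≠ 0 ↔ eval x q ≠ 0 ∧ eval x q₃ ≠ 0 := by
    intro x
    simp only [D, map_mul, mul_ne_zero_iff, hq₂']
    exact ⟨fun h => h.1, fun h => ⟨h, h32 x h.2⟩⟩
  have hx₀D : eval x₀ D ≠ 0 := (hDiff x₀).2 ⟨hq0 b₀ hb₀, h30 b₀ hb₀⟩
  have hD0 : D ≠ 0 := by
    intro h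
    exact hx₀D (by rw [h, map_zero])
  -- the restriction of the covering
  let sD : Set (Fin (n + 1) → ℂ) := {x | eval x D ≠ 0}
  have hsD : IsOpen sD := isOpen_ne_fun (MvPolynomial.continuous_eval D) continuous_const
  have hsDq : sD ⊆ {x | eval x q ≠ 0} := fun x hx => ((hDiff x).1 hx).1
  let E₃ : Type := (p ⁻¹' sD : Set E)
  let p₃ : E₃ → (Fin (n + 1) → ℂ) := fun e => p e.1
  have hp₃ : IsCoveringMapOn p₃ {x | eval x D ≠ 0} := isCoveringMapOn_subtype p hcov hsDq hsD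
  have hp₃D : ∀ e, eval (p₃ e) D ≠ 0 := fun e => e.2
  have hq₃e : ∀ e : E, p e ∈ sD → eval (p e) q₃ ≠ 0 := fun e he => ((hDiff _).1 he).2
  have hpc : ∀ e : E, ContinuousAt p e := fun e => hcov.continuousAt (hpq e)
  have hfin₃ : ∀ x, (p₃ ⁻¹' {x}).Finite := fun x =>
    ((hfin x).preimage (Subtype.val_injective.injOn)).subset fun e he => he
  have himage : ∀ x, eval x D ≠ 0 → (hfin x).toFinset = (hfin₃ x).toFinset.image Subtype.val := by
    intro x hx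
    ext e
    simp only [Set.Finite.mem_toFinset, Set.mem_preimage, Set.mem_singleton_iff, Finset.mem_image]
    constructor
    · intro he
      have he' : p e ∈ sD := by rw [he]; exact hx
      exact ⟨⟨e, he'⟩, he, rfl⟩
    · rintro ⟨e', he', rfl⟩
      exact he'
  have hcard : ∀ x, eval x D ≠ 0 → (hfin₃ x).toFinset.card = m := by
    intro x hx
    have h1 : (hfin x).toFinset.card = (hfin₃ x).toFinset.card := by
      rw [himage x hx, Finset.card_image_of_injective _ Subtype.val_injective]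
    rw [← h1]
    have h2 := (hDiff x).1 hx
    have h3 := h32 x h2.2
    have e3 := H880.CoreMain.ncard_line q p hcov (Fin.tail x) (x 0) z₀
      (by rw [Fin.cons_self_tail]; exact h2.1) (hq0 _ h3)
    rw [Fin.cons_self_tail, Set.ncard_eq_toFinset_card _ (hfin x),
      Set.ncard_eq_toFinset_card _ (hfin _), hm _ h3] at e3
    exact e3
  -- the function
  let G : E₃ → ℂ := fun e => av p μ H e.1
  have hG : ∀ (e : E₃) (σ : (Fin (n + 1) → ℂ) → E₃), ContinuousAt σ (p₃ e) → σ (p₃ e) = e →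
      (∀ᶠ x in 𝓝 (p₃ e), p₃ (σ x) = x) → DifferentiableAt ℂ (G ∘ σ) (p₃ e) := by
    intro e σ hσ hσ0 hσp
    exact differentiableAt_av p m N q₂ μ hμ hμs q₃ h32 gc ec H hHc hHs hHr e.1 (hq₃e _ e.2) (hpc _)
      (fun x => (σ x).1) (continuous_subtype_val.continuousAt.comp hσ) (congrArg Subtype.val hσ0) hσp
  -- growth
  obtain ⟨K, M, N', hgr⟩ := RootGrowth.growth n m N q₂ μ hμ gc ec
  obtain ⟨K₁, N₁, hK₁, hgr₁⟩ := H869.PolyGrowth.pg_eval (fun x : Fin (n + 1) → ℂ => x) (q * q₃)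
  have hroots : ∀ b, eval b q₂ ≠ 0 → (μ.map (eval b)).roots.toFinset.card = μ.natDegree := by
    intro b hb
    rw [Multiset.toFinset_card_of_nodup (Polynomial.nodup_roots (hμs b hb)),
      ← (IsAlgClosed.splits (μ.map (eval b))).natDegree_eq_card_roots, hμ.natDegree_map]
  have hd0 : (μ.natDegree : ℂ) ≠ 0 := Nat.cast_ne_zero.2 hμ0
  have hgrow : ∀ e : E₃, ‖G e‖ * ‖eval (p₃ e) D‖ ^ M ≤
      (max K 0 * K₁ ^ M) * (1 + ‖p₃ e‖) ^ (N' + N₁ * M) := by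
    intro e
    have hq2e : eval (Fin.tail (p e.1)) q₂ ≠ 0 := h32 _ (hq₃e _ e.2)
    have h1 : ‖G e‖ * ‖eval (Fin.tail (p e.1)) q₂‖ ^ M ≤ max K 0 * (1 + ‖p e.1‖) ^ N' := by
      have h2 : ∀ θ ∈ (μ.map (eval (Fin.tail (p e.1)))).roots.toFinset,
          ‖H (e.1, θ)‖ * ‖eval (Fin.tail (p e.1)) q₂‖ ^ M ≤ max K 0 * (1 + ‖p e.1‖) ^ N' := by
        intro θ hθ
        have hθ' := (mem_roots_iff μ hμ _ _).1 hθ
        refine (hgr (p e.1) θ (H (e.1, θ)) hq2e hθ' (hHr (e.1, θ) (hq₃e _ e.2) hθ')).trans ?_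
        exact mul_le_mul_of_nonneg_right (le_max_left _ _) (by positivity)
      have h3 : ‖G e‖ ≤ (μ.natDegree : ℝ)⁻¹ *
          ∑ θ ∈ (μ.map (eval (Fin.tail (p e.1)))).roots.toFinset, ‖H (e.1, θ)‖ := by
        simp only [G, av]
        rw [norm_mul, norm_inv, Complex.norm_natCast]
        exact mul_le_mul_of_nonneg_left (norm_sum_le _ _) (by positivity)
      calc ‖G e‖ * ‖eval (Fin.tail (p e.1)) q₂‖ ^ M
          ≤ ((μ.natDegree : ℝ)⁻¹ *
          ∑ θ ∈ (μ.map (eval (Fin.tail (p e.1)))).roots.toFinset, ‖H (e.1, θ)‖) *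
            ‖eval (Fin.tail (p e.1)) q₂‖ ^ M := mul_le_mul_of_nonneg_right h3 (by positivity)
        _ = (μ.natDegree : ℝ)⁻¹ * ∑ θ ∈ (μ.map (eval (Fin.tail (p e.1)))).roots.toFinset,
            (‖H (e.1, θ)‖ * ‖eval (Fin.tail (p e.1)) q₂‖ ^ M) := by
          rw [mul_assoc, Finset.sum_mul]
        _ ≤ (μ.natDegree : ℝ)⁻¹ * ∑ θ ∈ (μ.map (eval (Fin.tail (p e.1)))).roots.toFinset,
            (max K 0 * (1 + ‖p e.1‖) ^ N') :=
          mul_le_mul_of_nonneg_left (Finset.sum_le_sum h2) (by positivity)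
        _ = max K 0 * (1 + ‖p e.1‖) ^ N' := by
          rw [Finset.sum_const, hroots _ hq2e, nsmul_eq_mul, ← mul_assoc,
            inv_mul_cancel₀ (Nat.cast_ne_zero.2 hμ0), one_mul]
    have h4 : ‖eval (p e.1) D‖ ^ M = ‖eval (Fin.tail (p e.1)) q₂‖ ^ M * ‖eval (p e.1) (q * q₃)‖ ^ M := by
      rw [← mul_pow, ← norm_mul, ← hq₂', ← map_mul, mul_comm q₂' (q * q₃)]
    have h5 : ‖eval (p e.1) (q * q₃)‖ ^ M ≤ (K₁ * (1 + ‖p e.1‖) ^ N₁) ^ M :=
      pow_le_pow_left₀ (norm_nonneg _) (hgr₁ (p e.1)) M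
    change ‖G e‖ * ‖eval (p e.1) D‖ ^ M ≤ _
    rw [h4, ← mul_assoc]
    calc ‖G e‖ * ‖eval (Fin.tail (p e.1)) q₂‖ ^ M * ‖eval (p e.1) (q * q₃)‖ ^ M
        ≤ (max K 0 * (1 + ‖p e.1‖) ^ N') * (K₁ * (1 + ‖p e.1‖) ^ N₁) ^ M :=
          mul_le_mul h1 h5 (by positivity) (by positivity)
      _ = (max K 0 * K₁ ^ M) * (1 + ‖p₃ e‖) ^ (N' + N₁ * M) := by
          change _ = (max K 0 * K₁ ^ M) * (1 + ‖p e.1‖) ^ (N' + N₁ * M)
          rw [mul_pow, ← pow_mul, pow_add]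
          ring
  -- injectivity over `x₀`
  have hinj : Set.InjOn G (p₃ ⁻¹' {x₀}) := by
    have h1 : ∀ e : E₃, e ∈ p₃ ⁻¹' {x₀} → G e = s e.1 := by
      intro e he
      have he' : p e.1 = x₀ := he
      have h2 : ∀ θ ∈ (μ.map (eval (Fin.tail (p e.1)))).roots.toFinset, H (e.1, θ) = s e.1 := by
        intro θ hθ
        refine hH0 (e.1, θ) (hq₃e _ e.2) ((mem_roots_iff μ hμ _ _).1 hθ) ?_
        simp only [he', x₀, Fin.cons_zero]
      simp only [G, av]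
      rw [Finset.sum_congr rfl h2, Finset.sum_const, hroots _ (h32 _ (hq₃e _ e.2)), nsmul_eq_mul,
        ← mul_assoc, inv_mul_cancel₀ hd0, one_mul]
    intro e he e' he' h
    rw [h1 e he, h1 e' he'] at h
    exact Subtype.ext (hs b₀ hb₀ he he' h)
  obtain ⟨q', f, k, hq', hDq', hf, -, hfx⟩ := H520.Sym2.exists_charpoly_separable_of D hD0 p₃ hfin₃ m G
    (H934.Charpoly.exists_charpoly₂ D hD0 p₃ hp₃ hp₃D hfin₃ m hcard G hG _ M _ hgrow) x₀ hx₀D hinj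
  have hq'D : ∀ x, eval x q' ≠ 0 → eval x D ≠ 0 := by
    intro x hx h
    obtain ⟨c, rfl⟩ := hDq'
    exact hx (by rw [map_mul, h, zero_mul])
  refine ⟨q', f, fun e => eval (p e) D ^ k * av p μ H e, hq', ?_, hf, ?_, ?_⟩
  · exact (Dvd.intro _ (by simp only [D]; ring_nf : q * (q₃ * q₂') = D)).trans hDq'
  · intro e he
    have he' : p e ∈ sD := hq'D _ he
    refine ContinuousAt.continuousWithinAt ?_
    refine ContinuousAt.mul ?_ (continuousAt_av p q₂ μ hμ hμs q₃ h32 H hHc e (hq₃e _ he') (hpc e))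
    exact ((MvPolynomial.continuous_eval D).continuousAt.comp (hpc e)).pow k
  · intro x hx
    refine ⟨(hfx x hx).1, ?_⟩
    rw [(hfx x hx).2, himage x (hq'D x hx), Finset.prod_image (Subtype.val_injective.injOn)]
    refine Finset.prod_congr rfl fun e he => ?_
    have he' : p e.1 = x := by
      rw [Set.Finite.mem_toFinset] at he
      exact he
    simp only [G]
    rw [he']

theorem stmtP3 : H880.CoreMain.StmtP3 := by
  intro n q hq E _ p hcov hpq hfin z₀ m N q₂ a1 a2 a3 s a4 μ a5 a6 a7 q₃ a8 a9 gc ec H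
      a10 a11 a12 a13
  exact core_of_H n q hq E p hcov hpq hfin z₀ m N q₂ a1 a2 a3 s a4 μ a5 a6 a7 q₃ a8 a9 gc ec H
      a10 a11 a12 a13

end Groth.Agent.An.H885.CoreOfH
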