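import Groth.Agent.An.H885.CoreOfH
import Groth.Agent.An.H520.Slice

/-!
# The core statement for all `n`
-/

set_option autoImplicit false

namespace Groth.Agent.An.H885.CoreAll

/-- Finite coverings of the complement of a hypersurface of `ℂⁿ` are algebraic over a smaller
complement. -/
theorem core : ∀ n, H880.CoreDef.Core n :=
  H880.CoreMain.core_of CoreOfH.stmtP3 (by
    intro n hn q hq E _ p hcov hpq hfin
    exact H520.Slice.exists_slice n hn q hq E p hcov hpq hfin)

theorem CORE : H870.CoreDef.CORE := H880.CoreMain.CORE_of core

end Groth.Agent.An.H885.CoreAll
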